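import Groth.Agent.FSchTilde.Hom
import Groth.Agent.FSysMod.Compl
import Groth.Agent.FittLib.Comap
import Groth.Agent.TopFin.Basics

/-!
# Completion of modules over an affine scheme along a finitely generated ideal
-/

universe u

open CategoryTheory CategoryTheory.Limits AlgebraicGeometry

set_option autoImplicit false
set_option backward.isDefEq.respectTransparency false
set_option linter.style.haveILetI false

noncomputable section

namespace Groth.Agent.FSchTilde

open FSysMod

section Tower

variable {A : Type u} [CommRing A] {J : Ideal A} {𝔛 : FSch.Sys.{u}}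
  {j : ∀ n, 𝔛.X n ⟶ Spec (CommRingCat.of A)}
  {τ : ∀ n, Scheme.Modules.pullback (j (n + 1)) ⋙ Scheme.Modules.pullback (𝔛.ι n) ≅ Scheme.Modules.pullback (j n)}
  (hq : ∀ n, IsQuot (J ^ (n + 1)) (j n))

include hq in
theorem hom_bijective (M N : ModuleCat.{u} A) [Module.Finite A M]
    [IsAdicComplete J N] (φ : sys j τ M ⟶ sys j τ N) :
    ∃! u : M ⟶ N, ∀ n, (T (j n)).map u = φ.app n := by
  have huniq : ∀ u v : M ⟶ N, (∀ n, (T (j n)).map u = (T (j n)).map v) → u = v := fun u v h => by
    refine ModuleCat.hom_ext (LinearMap.ext fun x => ?_)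
    refine (IsHausdorff.eq_iff_smodEq (I := J)).2 fun n => ?_
    rw [SModEq.sub_mem]
    exact Submodule.smul_mono_left (Ideal.pow_le_pow_right (Nat.le_succ n)) ((map_eq_iff hq n u v).1 (h n) x)
  obtain ⟨r, p₀, hp₀⟩ := Module.Finite.exists_fin' A M
  let P := ModuleCat.of A (Fin r → A)
  let p : P ⟶ M := ModuleCat.ofHom p₀
  haveI : Module.Projective A P := inferInstanceAs (Module.Projective A (Fin r → A))
  choose w hw using fun n => exists_lift hq n ((T (j n)).map p ≫ φ.app n)
  have hstep : ∀ n, (T (j n)).map (w (n + 1)) = (T (j n)).map (w n) := fun n => by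
    rw [hw, ← cancel_epi ((sys j τ P).e n).hom, ← transMap, hw, Functor.map_comp, Category.assoc, φ.comm,
      ← Category.assoc, transMap, Category.assoc]
  have hcau : ∀ {m n : ℕ}, m ≤ n → ∀ x, (w m).hom x - (w n).hom x ∈ J ^ (m + 1) • (⊤ : Submodule A N) := by
    intro m n hmn
    induction hmn with
    | refl => intro x; rw [sub_self]; exact zero_mem _
    | @step k hk ih =>
      intro x
      have h1 := Submodule.smul_mono_left (Ideal.pow_le_pow_right (Nat.succ_le_succ hk))
        ((map_eq_iff hq k _ _).1 (hstep k).symm x)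
      have := add_mem (ih x) h1
      rwa [sub_add_sub_cancel] at this
  have hlim : ∀ i : Fin r, ∃ L : N, ∀ n, (w n).hom (Pi.single i 1) - L ∈ J ^ n • (⊤ : Submodule A N) := fun i => by
    obtain ⟨L, hL⟩ := IsPrecomplete.prec (I := J) inferInstance (f := fun n => (w n).hom (Pi.single i 1))
      (fun {m n} hmn => SModEq.sub_mem.2 (Submodule.smul_mono_left (Ideal.pow_le_pow_right (Nat.le_succ m)) (hcau hmn _)))
    exact ⟨L, fun n => SModEq.sub_mem.1 (hL n)⟩
  choose L hL using hlim
  let W : (Fin r → A) →ₗ[A] N := Fintype.linearCombination A L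
  have hW : ∀ n x, W x - (w n).hom x ∈ J ^ (n + 1) • (⊤ : Submodule A N) := fun n x => by
    have hi : ∀ i, W (Pi.single i 1) - (w n).hom (Pi.single i 1) ∈ J ^ (n + 1) • (⊤ : Submodule A N) := fun i => by
      have h1 := hL i (n + 1)
      have h2 := hcau (Nat.le_succ n) (Pi.single i (1 : A))
      have e : W (Pi.single i 1) = L i := by simp [W, Fintype.linearCombination_apply_single]
      have := neg_mem (add_mem h1 h2)
      rw [e]
      convert this using 1
      abel
    conv => rw [← Finset.univ_sum_single x]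
    rw [map_sum, map_sum, ← Finset.sum_sub_distrib]
    refine sum_mem fun i _ => ?_
    rw [show Pi.single i (x i) = x i • (Pi.single i (1 : A) : Fin r → A) by
      ext k; simp [Pi.single_apply], map_smul, map_smul, ← smul_sub]
    exact Submodule.smul_mem _ _ (hi i)
  have hker : LinearMap.ker p₀ ≤ LinearMap.ker W := fun x hx => by
    refine IsHausdorff.haus (I := J) inferInstance _ fun n => ?_
    rw [SModEq.zero]
    refine Submodule.smul_mono_left (Ideal.pow_le_pow_right (Nat.le_succ n)) ?_
    let g : ModuleCat.of A A ⟶ P := ModuleCat.ofHom (LinearMap.toSpanSingleton A (Fin r → A) x)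
    have hg : (T (j n)).map (g ≫ w n) = (T (j n)).map ((0 : ModuleCat.of A A ⟶ P) ≫ w n) := by
      have h0 : g ≫ p = (0 : ModuleCat.of A A ⟶ P) ≫ p := ModuleCat.hom_ext (LinearMap.ext fun a => by
        show p₀ (a • x) = p₀ 0
        rw [map_smul, LinearMap.mem_ker.1 hx, smul_zero, map_zero])
      rw [Functor.map_comp, Functor.map_comp, hw, ← Category.assoc, ← Category.assoc, ← Functor.map_comp, h0,
        Functor.map_comp]
    have h1 := (map_eq_iff hq n _ _).1 hg 1
    have h2 := hW n x
    have h1' : (w n).hom ((1 : A) • x) - (w n).hom 0 ∈ J ^ (n + 1) • (⊤ : Submodule A N) := h1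
    rw [map_zero, sub_zero, one_smul] at h1'
    have := add_mem h2 h1'
    rwa [sub_add_cancel] at this
  let u₀ : M →ₗ[A] N := (LinearMap.ker p₀).liftQ W hker ∘ₗ (p₀.quotKerEquivOfSurjective hp₀).symm.toLinearMap
  have hu₀ : ∀ x, u₀ (p₀ x) = W x := fun x => by
    show (LinearMap.ker p₀).liftQ W hker ((p₀.quotKerEquivOfSurjective hp₀).symm (p₀ x)) = W x
    rw [show p₀ x = p₀.quotKerEquivOfSurjective hp₀ (Submodule.Quotient.mk x) from rfl, LinearEquiv.symm_apply_apply]
    rfl
  have hexi : ∀ n, (T (j n)).map (ModuleCat.ofHom u₀) = φ.app n := fun n => by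
    haveI : Epi p := (ModuleCat.epi_iff_surjective p).2 hp₀
    haveI := Functor.preservesEpimorphisms_of_adjunction (tilde.adjunction (R := CommRingCat.of A))
    haveI := Functor.preservesEpimorphisms_of_adjunction (Scheme.Modules.pullbackPushforwardAdjunction (j n))
    haveI : Epi ((tilde.functor (CommRingCat.of A)).map p) := Functor.map_epi _ _
    haveI : Epi ((T (j n)).map p) :=
      inferInstanceAs (Epi ((Scheme.Modules.pullback (j n)).map ((tilde.functor (CommRingCat.of A)).map p)))
    rw [← cancel_epi ((T (j n)).map p), ← Functor.map_comp, ← hw]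
    refine (map_eq_iff hq n _ _).2 fun x => ?_
    show u₀ (p₀ x) - _ ∈ _
    rw [hu₀]
    exact hW n x
  exact ⟨ModuleCat.ofHom u₀, hexi, fun v hv => huniq _ _ fun n => (hv n).trans (hexi n).symm⟩

end Tower

variable {A : Type u} [CommRing A] (J : Ideal A)

theorem fg_idealSpec (hJ : J.FG) (W : (Spec (CommRingCat.of A)).affineOpens) : ((FSch.idealSpec A J).ideal W).FG := by
  have h1 : ((FSch.idealSpec A J).ideal ⟨⊤, isAffineOpen_top _⟩).FG := by
    rw [FittLib.idealSpec_ideal_top, show J.comap (Scheme.ΓSpecIso (CommRingCat.of A)).hom.hom =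
      J.map (Scheme.ΓSpecIso (CommRingCat.of A)).inv.hom from
      (Ideal.map_symm (I := J) (Scheme.ΓSpecIso (CommRingCat.of A)).commRingCatIsoToRingEquiv).symm]
    exact hJ.map _
  rw [← (FSch.idealSpec A J).map_ideal (U := W) (V := ⟨⊤, isAffineOpen_top _⟩) (show W.1 ≤ ⊤ from le_top)]
  exact h1.map _

instance (n : ℕ) : IsClosedImmersion
    (FSch.completionToX (Spec (CommRingCat.of A)) (FSch.idealSpec A J) n) :=
  inferInstanceAs (IsClosedImmersion ((FSch.idealSpec A J) ^ (n + 1)).subschemeι)

variable (h : (FSch.completionAlong (Spec (CommRingCat.of A)) (FSch.idealSpec A J)).IsFormal)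

theorem complModMap_bijective (hJ : J.FG) (M N : ModuleCat.{u} A) [Module.Finite A M] [IsAdicComplete J N] :
    Function.Bijective (fun u : M ⟶ N =>
      FSch.ModSys.realModMap h (FSch.complModMap (FSch.idealSpec A J) ((tilde.functor (CommRingCat.of A)).map u))) := by
  have h1 : Function.Bijective (fun u : M ⟶ N =>
      FSch.complModMap (FSch.idealSpec A J) ((tilde.functor (CommRingCat.of A)).map u)) := by
    refine Function.bijective_iff_existsUnique _ |>.2 fun φ => ?_
    obtain ⟨u, hu, hu'⟩ := hom_bijective (τ := FSch.complTransIso (FSch.idealSpec A J))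
      (isQuot_completionToX A J) M N φ
    exact ⟨u, FSch.ModSys.Hom.ext (funext hu), fun v hv => hu' v fun n =>
      congrArg (fun ψ : FSch.ModSys.Hom _ _ => ψ.app n) hv⟩
  have h2 := realModMap_bijective (FSch.completionAlong (Spec (CommRingCat.of A)) (FSch.idealSpec A J))
    (FSch.completionToX (Spec (CommRingCat.of A)) (FSch.idealSpec A J))
    (FSchCoh.completion_hg (FSch.idealSpec A J)) h (fun W => (FSch.idealSpec A J).ideal W)
    (fun W n => FSchCoh.ker_completionToX (FSch.idealSpec A J) W.2 n) (fg_idealSpec J hJ)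
    (F := (tilde.functor (CommRingCat.of A)).obj M) (inferInstanceAs (tilde (R := CommRingCat.of A) M).IsQuasicoherent)
    (FSch.complMod (FSch.idealSpec A J) ((tilde.functor (CommRingCat.of A)).obj N))
  exact h2.comp h1

theorem isAdicComplete_map {R : Type u} [CommRing R] {I : Ideal R} (hR : AdicRing.IsBase R I) [Algebra R A]
    (hA : AdicRing.TopFiniteType R I A) (M : Type u) [AddCommGroup M] [Module A M] [Module.Finite A M] :
    IsAdicComplete (I.map (algebraMap R A)) M := by
  letI : Module R M := Module.compHom M (algebraMap R A)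
  haveI : IsScalarTower R A M := IsScalarTower.of_algebraMap_smul fun _ _ => rfl
  exact (IsAdicComplete.map_algebraMap_iff _ _).2 (TopFin.isAdicComplete_finite hR hA M)

theorem fg_map {R : Type u} [CommRing R] {I : Ideal R} (hR : AdicRing.IsBase R I) [Algebra R A] :
    (I.map (algebraMap R A)).FG :=
  (AdicRingLib.fg_of_isBase hR).map _

end Groth.Agent.FSchTilde
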