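import Groth.Agent.FSchTilde.Affine
import Groth.Agent.LocFree.Props
import Groth.Agent.ModDesc.Iso

/-!
# Systems of finitely presented modules on the thickenings of an affine scheme
-/

universe u

open CategoryTheory CategoryTheory.Limits AlgebraicGeometry

set_option autoImplicit false
set_option linter.style.haveILetI false
set_option backward.isDefEq.respectTransparency false

noncomputable section

namespace Groth.Agent.FSchTilde

open FSysMod

theorem fp_top {R : CommRingCat.{u}} (G : (Spec R).Modules) [Module.FinitePresentation Γ(Spec R, ⊤) Γ(G, ⊤)] :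
    Module.FinitePresentation R ((modulesSpecToSheaf.obj G).presheaf.obj (Opposite.op ⊤)) := by
  letI := (Scheme.ΓSpecIso R).inv.hom.toAlgebra
  have hb : Function.Bijective (algebraMap R Γ(Spec R, ⊤)) :=
    ConcreteCategory.bijective_of_isIso (Scheme.ΓSpecIso R).inv
  haveI : Module.FinitePresentation R Γ(Spec R, ⊤) :=
    Module.FinitePresentation.of_equiv (LinearEquiv.ofBijective (Algebra.linearMap R Γ(Spec R, ⊤)) hb)
  haveI : IsScalarTower R Γ(Spec R, ⊤) Γ(G, ⊤) := ⟨fun a c m => by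
    rw [Algebra.smul_def, mul_smul]
    exact (Scheme.Modules.smul_Spec_def a (c • m)).symm.trans rfl |>.trans rfl⟩
  exact Module.FinitePresentation.trans R Γ(G, ⊤) Γ(Spec R, ⊤)

theorem fp_res {A : Type u} [CommRing A] (K : Ideal A) (hK : K.FG) (P : ModuleCat.{u} (A ⧸ K))
    [Module.FinitePresentation (A ⧸ K) P] : Module.FinitePresentation A ((res K).obj P) := by
  letI : Module A P := inferInstanceAs (Module A ((res K).obj P))
  haveI : IsScalarTower A (A ⧸ K) P := IsScalarTower.of_algebraMap_smul fun _ _ => rfl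
  haveI : Module.FinitePresentation A (A ⧸ K) :=
    Module.finitePresentation_of_surjective K.mkQ K.mkQ_surjective (by rw [Submodule.ker_mkQ]; exact hK)
  show Module.FinitePresentation A P
  exact Module.FinitePresentation.trans A P (A ⧸ K)

theorem ker_sup_fg {A : Type u} [CommRing A] {J : Ideal A} {N : ℕ → ModuleCat.{u} A}
    {g : ∀ n, N (n + 1) →ₗ[A] N n} {L : Type u} [AddCommGroup L] [Module A L] {π : ∀ n, L →ₗ[A] N n}
    (hlim : AdicLim.IsLimit g π) (hg : ∀ n, Function.Surjective (g n))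
    (hker : ∀ n, LinearMap.ker (π n) = J ^ (n + 1) • (⊤ : Submodule A L)) {r : ℕ} (φ : (Fin r → A) →ₗ[A] L)
    (hφ : Function.Surjective φ) (n : ℕ) (hN : Module.FinitePresentation A (N n)) :
    (LinearMap.ker φ ⊔ J ^ (n + 1) • (⊤ : Submodule A (Fin r → A))).FG := by
  have h1 := Module.FinitePresentation.fg_ker (π n ∘ₗ φ) ((hlim.surjective hg n).comp hφ)
  rwa [LinearMap.ker_comp, hker, ← LinearMap.range_eq_top.2 hφ, ← Submodule.map_top, ← Submodule.map_smul'',
    Submodule.comap_map_eq, sup_comm] at h1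

theorem exists_of_isFP {A : Type u} [CommRing A] {K : Ideal A} {Z : Scheme.{u}} {f : Z ⟶ Spec (CommRingCat.of A)}
    (hq : IsQuot K f) (hK : K.FG) (F : Z.Modules) (hF : Coh.IsQCoh F) (hfp : CohB1.IsFP F) :
    ∃ N : ModuleCat.{u} A, Module.FinitePresentation A N ∧ K • (⊤ : Submodule A N) = ⊥ ∧
      Nonempty ((T f).obj N ≅ F) := by
  obtain ⟨h, hf⟩ := hq
  haveI := isEquivalence_pullback h
  let G := (Scheme.Modules.pullback h.inv).obj F
  have eG : (Scheme.Modules.pullback h.hom).obj G ≅ F :=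
    (Scheme.Modules.pullbackComp h.hom h.inv ≪≫ Scheme.Modules.pullbackCongr h.hom_inv_id ≪≫
      Scheme.Modules.pullbackId Z).app F
  have hGq : Coh.IsQCoh G := QC.isQCoh_pullback _ hF
  haveI : G.IsQuasicoherent := hGq
  haveI := LocFree.finitePresentation_sections_of_isFP hGq (ModDesc.isFP_pullback h.inv hF hfp)
    (isAffineOpen_top _)
  let P : ModuleCat.{u} (A ⧸ K) := (modulesSpecToSheaf.obj G).presheaf.obj (Opposite.op ⊤)
  haveI : Module.FinitePresentation (A ⧸ K) P := fp_top (R := CommRingCat.of (A ⧸ K)) G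
  let N := (res K).obj P
  refine ⟨N, ?_, smul_res K P, ⟨(compIso h hf).app N ≪≫ (Scheme.Modules.pullback h.hom).mapIso
    ((tilde.functor _).mapIso (asIso ((adj K).counit.app P)) ≪≫ QC.isoTildeΓ G) ≪≫ eG⟩⟩
  exact fp_res K hK P

section Tower

variable {A : Type u} [CommRing A] {J : Ideal A} {𝔛 : FSch.Sys.{u}}
  {j : ∀ n, 𝔛.X n ⟶ Spec (CommRingCat.of A)}
  {τ : ∀ n, Scheme.Modules.pullback (j (n + 1)) ⋙ Scheme.Modules.pullback (𝔛.ι n) ≅ Scheme.Modules.pullback (j n)}
  (hq : ∀ n, IsQuot (J ^ (n + 1)) (j n))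

include hq

theorem exists_system (hJ : J.FG) [IsAdicComplete J A] (𝔐 : FSch.ModSys 𝔛) (h𝔐 : ∀ n, Coh.IsQCoh (𝔐.F n))
    (hfp : ∀ n, CohB1.IsFP (𝔐.F n)) :
    ∃ M : ModuleCat.{u} A, Module.Finite A M ∧
      (∀ (r : ℕ) (φ : (Fin r → A) →ₗ[A] M), Function.Surjective φ → ∀ n,
        (LinearMap.ker φ ⊔ J ^ (n + 1) • (⊤ : Submodule A (Fin r → A))).FG) ∧ ∃ ψ : ∀ n, (T (j n)).obj M ≅ 𝔐.F n,
      ∀ n, (Scheme.Modules.pullback (𝔛.ι n)).map (ψ (n + 1)).hom ≫ (𝔐.e n).hom =
        ((sys j τ M).e n).hom ≫ (ψ n).hom := by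
  choose N hfp' hkill hiso using fun n => exists_of_isFP (hq n) (hJ.pow (n := n + 1)) (𝔐.F n) (h𝔐 n) (hfp n)
  let e := fun n => (hiso n).some
  let θ : ∀ n, (T (j n)).obj (N (n + 1)) ⟶ (T (j n)).obj (N n) := fun n =>
    ((sys j τ (N (n + 1))).e n).inv ≫ (Scheme.Modules.pullback (𝔛.ι n)).map (e (n + 1)).hom ≫
      (𝔐.e n).hom ≫ (e n).inv
  choose g hg using fun n => (map_bijective (hq n) (N (n + 1)) (N n) (hkill n)).2 (θ n)
  have hprop : ∀ n, Function.Surjective (g n).hom ∧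
      LinearMap.ker (g n).hom = J ^ (n + 1) • (⊤ : Submodule A (N (n + 1))) := fun n => by
    haveI : IsIso ((T (j n)).map (g n)) := by
      have := hg n
      simp only at this
      rw [this]
      infer_instance
    exact surjective_and_ker_of_isIso (hq n) (hkill n) (g n)
  let L : Submodule A (∀ n, N n) :=
    { carrier := {x | ∀ n, (g n).hom (x (n + 1)) = x n}
      add_mem' := fun {x y} hx hy n => by simp only [Pi.add_apply, map_add, hx n, hy n]
      zero_mem' := fun n => by simp only [Pi.zero_apply, map_zero]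
      smul_mem' := fun a x hx n => by simp only [Pi.smul_apply, map_smul, hx n] }
  let π : ∀ n, ↥L →ₗ[A] N n := fun n => (LinearMap.proj n).comp L.subtype
  have hlim : AdicLim.IsLimit (M := fun n => N n) (fun n => (g n).hom) π :=
    { comm := fun n => LinearMap.ext fun x => x.2 n
      inj := fun x hx => Subtype.ext (funext hx)
      lift := fun y hy => ⟨⟨y, hy⟩, fun _ => rfl⟩ }
  haveI := hfp' 0
  obtain ⟨hLfin, hLker⟩ := hlim.finite_and_ker_eq J (fun n => (hprop n).1) (fun n => (hprop n).2)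
  let M := ModuleCat.of A ↥L
  let πn : ∀ n, M ⟶ N n := fun n => ModuleCat.ofHom (π n)
  have hπ : ∀ n, IsIso ((T (j n)).map (πn n)) := fun n => by
    haveI := exists_mkQ_iso (hq n) M
    let h : ModuleCat.of A (↥L ⧸ (J ^ (n + 1) • (⊤ : Submodule A ↥L))) ⟶ N n :=
      ModuleCat.ofHom (Submodule.liftQ _ (π n) (hLker n).ge)
    haveI : IsIso h := (ConcreteCategory.isIso_iff_bijective _).2
      ⟨LinearMap.ker_eq_bot.1 (Submodule.ker_liftQ_eq_bot _ (π n) (hLker n).ge (hLker n).le),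
        fun y => by
          obtain ⟨x, hx⟩ := hlim.surjective (fun n => (hprop n).1) n y
          exact ⟨Submodule.Quotient.mk x, hx⟩⟩
    rw [show πn n = ModuleCat.ofHom (X := M) (Submodule.mkQ (J ^ (n + 1) • (⊤ : Submodule A M))) ≫ h from rfl,
      Functor.map_comp]
    infer_instance
  refine ⟨M, hLfin, fun r φ hφ n => ker_sup_fg hlim (fun n => (hprop n).1) hLker φ hφ n (hfp' n), fun n => (@asIso _ _ _ _ _ (hπ n)) ≪≫ e n, fun n => ?_⟩
  have hc : πn (n + 1) ≫ g n = πn n := ModuleCat.hom_ext (hlim.comm n)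
  simp only [Iso.trans_hom, asIso_hom, Functor.map_comp, Category.assoc]
  have h1 := transMap (j := j) (τ := τ) (πn (n + 1)) n
  have h2 : (Scheme.Modules.pullback (𝔛.ι n)).map (e (n + 1)).hom ≫ (𝔐.e n).hom =
      ((sys j τ (N (n + 1))).e n).hom ≫ (T (j n)).map (g n) ≫ (e n).hom := by
    have := hg n
    simp only at this
    simp only [this, θ, Category.assoc, Iso.inv_hom_id, Category.comp_id, Iso.hom_inv_id_assoc]
  rw [h2, ← Category.assoc]
  erw [h1]
  rw [Category.assoc, ← Functor.map_comp_assoc, hc]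

/-- isomorphism of systems from compatible levelwise isomorphisms -/
theorem exists_iso (hJ : J.FG) [IsAdicComplete J A] (𝔐 : FSch.ModSys 𝔛) (h𝔐 : ∀ n, Coh.IsQCoh (𝔐.F n))
    (hfp : ∀ n, CohB1.IsFP (𝔐.F n)) :
    ∃ M : ModuleCat.{u} A, Module.Finite A M ∧
      (∀ (r : ℕ) (φ : (Fin r → A) →ₗ[A] M), Function.Surjective φ → ∀ n,
        (LinearMap.ker φ ⊔ J ^ (n + 1) • (⊤ : Submodule A (Fin r → A))).FG) ∧ Nonempty (𝔐 ≅ sys j τ M) := by
  obtain ⟨M, hM, hK, ψ, hψ⟩ := exists_system (τ := τ) hq hJ 𝔐 h𝔐 hfp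
  refine ⟨M, hM, hK, ⟨Iso.symm ⟨⟨fun n => (ψ n).hom, hψ⟩, ⟨fun n => (ψ n).inv, fun n => ?_⟩,
    FSch.ModSys.Hom.ext (funext fun n => (ψ n).hom_inv_id), FSch.ModSys.Hom.ext (funext fun n => (ψ n).inv_hom_id)⟩⟩⟩
  refine ((Iso.inv_comp_eq ((Scheme.Modules.pullback (𝔛.ι n)).mapIso (ψ (n + 1)))).2 ?_ :)
  rw [← Category.assoc, Functor.mapIso_hom, hψ n, Category.assoc, Iso.hom_inv_id, Category.comp_id]

end Tower

end Groth.Agent.FSchTilde
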