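import Groth.Agent.FSchTilde.Good
import Groth.Agent.FSchTilde.Sys

/-!
# Finitely presented modules on an affine formal scheme
-/

universe u

open CategoryTheory CategoryTheory.Limits AlgebraicGeometry TopologicalSpace Opposite

set_option autoImplicit false
set_option backward.isDefEq.respectTransparency false
set_option linter.style.haveILetI false

noncomputable section

namespace Groth.Agent.FSchTilde

theorem finitePresentation_of_trunc {R : Type u} [CommRing R] {I : Ideal R} (hR : AdicRing.IsBase R I) {A : Type u}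
    [CommRing A] [Algebra R A] (hA : AdicRing.TopFiniteType R I A) (M : Type u) [AddCommGroup M] [Module A M]
    [Module.Finite A M]
    (hM : ∀ (r : ℕ) (φ : (Fin r → A) →ₗ[A] M), Function.Surjective φ → ∀ n,
      (LinearMap.ker φ ⊔ I.map (algebraMap R A) ^ (n + 1) • (⊤ : Submodule A (Fin r → A))).FG) :
    Module.FinitePresentation A M := by
  classical
  obtain ⟨r, φ, hφ⟩ := Module.Finite.exists_fin' A M
  refine Module.finitePresentation_of_surjective φ hφ ?_
  set K := LinearMap.ker φ
  set J := I.map (algebraMap R A)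
  obtain ⟨hsat, har⟩ := TopFin.good_of_topFiniteType hR hA
  obtain ⟨n₀, hn₀⟩ := har (Fin r → A) K
  let Ks : Submodule A (Fin r → A) :=
    { carrier := {x | ∃ k : ℕ, ∀ a ∈ J ^ k, a • x ∈ K}
      add_mem' := fun {x y} ⟨i, hi⟩ ⟨j, hj⟩ => ⟨i + j, fun a ha => by
        rw [smul_add]
        exact K.add_mem (hi a (Ideal.pow_le_pow_right (Nat.le_add_right i j) ha))
          (hj a (Ideal.pow_le_pow_right (Nat.le_add_left j i) ha))⟩
      zero_mem' := ⟨0, fun a _ => by rw [smul_zero]; exact K.zero_mem⟩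
      smul_mem' := fun b x ⟨i, hi⟩ => ⟨i, fun a ha => by rw [smul_comm]; exact K.smul_mem b (hi a ha)⟩ }
  have hKs : Ks.FG := hsat (Fin r → A) Ks fun x k hx => by
    obtain ⟨s, hs⟩ := ((fg_map (A := A) hR).pow (n := k))
    have hx' : ∀ a ∈ J ^ k, a • x ∈ Ks := fun a ha => by
      rw [show J ^ k = (I ^ k).map (algebraMap R A) from (Ideal.map_pow (algebraMap R A) I k).symm] at ha
      induction ha using Submodule.span_induction with
      | mem y hy => obtain ⟨c, hc, rfl⟩ := hy; rw [algebraMap_smul]; exact hx c hc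
      | zero => rw [zero_smul]; exact Ks.zero_mem
      | add y z _ _ hy hz => rw [add_smul]; exact Ks.add_mem hy hz
      | smul b y _ hy => rw [smul_eq_mul, mul_smul]; exact Ks.smul_mem b hy
    choose e he using fun a : s => hx' a.1 (hs ▸ Submodule.subset_span a.2)
    refine ⟨k + Finset.univ.sup e, fun a ha => ?_⟩
    rw [add_comm, pow_add] at ha
    refine Submodule.mul_induction_on ha (fun b hb c hc => ?_) fun y z hy hz => by
      rw [add_smul]; exact K.add_mem hy hz
    rw [mul_smul]
    have hc' : c ∈ Submodule.span A (s : Set A) := by rw [← hs] at hc; exact hc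
    induction hc' using Submodule.span_induction with
    | mem y hy => exact he ⟨y, hy⟩ b (Ideal.pow_le_pow_right (Finset.le_sup (Finset.mem_univ (⟨y, hy⟩ : s))) hb)
    | zero => rw [zero_smul, smul_zero]; exact K.zero_mem
    | add y z hy' hz' hy hz =>
      rw [add_smul, smul_add]
      exact K.add_mem (hy (hs ▸ hy')) (hz (hs ▸ hz'))
    | smul d y hy' hy =>
      rw [smul_eq_mul, mul_smul, smul_comm]
      exact K.smul_mem d (hy (hs ▸ hy'))
  obtain ⟨s, hs⟩ := hKs
  choose e he using fun x : s => (show x.1 ∈ Ks from hs ▸ Submodule.subset_span x.2)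
  let E := Finset.univ.sup e
  have hE : J ^ E • Ks ≤ K := by
    refine Submodule.smul_le.2 fun a ha x hx => ?_
    rw [← hs] at hx
    induction hx using Submodule.span_induction with
    | mem y hy => exact he ⟨y, hy⟩ a (Ideal.pow_le_pow_right (Finset.le_sup (Finset.mem_univ (⟨y, hy⟩ : s))) ha)
    | zero => rw [smul_zero]; exact K.zero_mem
    | add y z _ _ hy hz => rw [smul_add]; exact K.add_mem hy hz
    | smul b y _ hy => rw [smul_comm]; exact K.smul_mem b hy
  obtain ⟨t, ht⟩ := hM r φ hφ (E + n₀)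
  have hk : ∀ x : t, ∃ y ∈ K, x.1 - y ∈ J ^ (E + n₀ + 1) • (⊤ : Submodule A (Fin r → A)) := fun x => by
    obtain ⟨y, hy, z, hz, hyz⟩ := Submodule.mem_sup.1 (ht ▸ Submodule.subset_span x.2)
    exact ⟨y, hy, by rw [← hyz, add_sub_cancel_left]; exact hz⟩
  choose y hy hyd using hk
  have hKK : K = Submodule.span A (Set.range y) ⊔ J ^ E • Ks := by
    refine le_antisymm (fun x hx => ?_) (sup_le (Submodule.span_le.2 (Set.range_subset_iff.2 hy)) hE)
    have hxt : x ∈ Submodule.span A (t : Set (Fin r → A)) := ht ▸ Submodule.mem_sup_left hx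
    obtain ⟨c, -, hc⟩ := Submodule.mem_span_finset.1 hxt
    let x' : Fin r → A := ∑ a : t, c a.1 • y a
    have hx' : x' ∈ Submodule.span A (Set.range y) :=
      sum_mem fun a _ => Submodule.smul_mem _ _ (Submodule.subset_span ⟨a, rfl⟩)
    have hd : x - x' ∈ J ^ (E + n₀ + 1) • (⊤ : Submodule A (Fin r → A)) := by
      rw [← hc, ← Finset.sum_coe_sort t, ← Finset.sum_sub_distrib]
      exact sum_mem fun a _ => by rw [← smul_sub]; exact Submodule.smul_mem _ _ (hyd a)
    have hd' : x - x' ∈ K := K.sub_mem hx (Submodule.span_le.2 (Set.range_subset_iff.2 hy) hx')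
    have h3 : x - x' ∈ J ^ (E + n₀) • (⊤ : Submodule A (Fin r → A)) :=
      Submodule.smul_mono (Ideal.pow_le_pow_right (Nat.le_succ _)) le_rfl hd
    rw [show J ^ (E + n₀) = (I ^ (E + n₀)).map (algebraMap R A) from (Ideal.map_pow _ I _).symm] at h3
    have h4 : x - x' ∈ I ^ (E + n₀) • (⊤ : Submodule R (Fin r → A)) :=
      (Set.ext_iff.1 (FSchCoh.ker_comp_equiv_smul (R := A) (I ^ (E + n₀)) (Fin r → A)) _).2 h3
    have h5 : x - x' ∈ (I ^ E).map (algebraMap R A) • K := by
      rw [← Submodule.restrictScalars_mem R, Ideal.smul_restrictScalars]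
      exact hn₀ E ⟨h4, hd'⟩
    rw [Ideal.map_pow] at h5
    have hKle : K ≤ Ks := fun z hz => ⟨0, fun a _ => K.smul_mem a hz⟩
    rw [← sub_add_cancel x x', add_comm]
    exact Submodule.add_mem_sup hx' (Submodule.smul_mono le_rfl hKle h5)
  rw [hKK]
  exact (Submodule.fg_span (Set.finite_range y)).sup (Submodule.FG.smul ((fg_map (A := A) hR).pow) ⟨s, hs⟩)

/-- isomorphic systems have isomorphic modules -/
def realModIso {𝔛 : FSch.Sys.{u}} (h : 𝔛.IsFormal) {𝔐 𝔑 : FSch.ModSys 𝔛} (e : 𝔐 ≅ 𝔑) :
    𝔐.realMod h ≅ 𝔑.realMod h where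
  hom := FSch.ModSys.realModMap h e.hom
  inv := FSch.ModSys.realModMap h e.inv
  hom_inv_id := by rw [← realModMap_comp, e.hom_inv_id, realModMap_id]
  inv_hom_id := by rw [← realModMap_comp, e.inv_hom_id, realModMap_id]

theorem sys_eq (A : Type u) [CommRing A] (J : Ideal A) (M : ModuleCat.{u} A) :
    FSysMod.sys (FSch.completionToX (Spec (CommRingCat.of A)) (FSch.idealSpec A J))
      (FSch.complTransIso (FSch.idealSpec A J)) M =
      FSch.complMod (FSch.idealSpec A J) ((tilde.functor (CommRingCat.of A)).obj M) := rfl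

theorem exists_iso_complMod {R : Type u} [CommRing R] {I : Ideal R} (hR : AdicRing.IsBase R I) {A : CommRingCat.{u}}
    [Algebra R A] (hA : AdicRing.TopFinitePresentation R I A)
    (h : (FSch.completionAlong (Spec (CommRingCat.of A)) (FSch.idealSpec A (I.map (algebraMap R A)))).IsFormal)
    (F : FSch.ModF (FSch.completionAlong (Spec (CommRingCat.of A)) (FSch.idealSpec A (I.map (algebraMap R A)))) h)
    (hF : FSch.IsCohF (FSch.completionAlong (Spec (CommRingCat.of A)) (FSch.idealSpec A (I.map (algebraMap R A)))) h F) :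
    ∃ M : ModuleCat.{u} A, Module.FinitePresentation A M ∧
      Nonempty (F ≅ (FSch.complMod (FSch.idealSpec A (I.map (algebraMap R A))) (tilde M)).realMod h) := by
  have hA' := TopFin.TopFinitePresentation.topFiniteType hA
  haveI := TopFin.isAdicComplete_self hR hA'
  obtain ⟨M, hM, hK, ⟨e⟩⟩ := exists_iso (τ := FSch.complTransIso (FSch.idealSpec A (I.map (algebraMap R A))))
    (FSysMod.isQuot_completionToX A (I.map (algebraMap R A))) (fg_map (A := A) hR) (FSchCoh.pullSys _ h F)
    (fun n => (isCoh_pullSys' F hF n).1) (isFP_pullSys F hF)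
  refine ⟨M, finitePresentation_of_trunc hR hA' M hK, ?_⟩
  have hB : Opens.IsBasis (Set.range fun f : A =>
      FSch.completionToX (Spec A) (FSch.idealSpec A (I.map (algebraMap R A))) 0 ⁻¹ᵁ PrimeSpectrum.basicOpen f) := by
    let g0 := FSch.completionToX (Spec A) (FSch.idealSpec A (I.map (algebraMap R A))) 0
    rw [Opens.isBasis_iff_nbhd]
    intro U x hx
    obtain ⟨V', hV', e⟩ := g0.isEmbedding.isInducing.isOpen_iff.1 U.isOpen
    have hx' : g0.base x ∈ (⟨V', hV'⟩ : (Spec A).Opens) := by
      show x ∈ g0.base ⁻¹' V'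
      rw [e]; exact hx
    obtain ⟨_, ⟨_, ⟨f, rfl⟩, rfl⟩, hxf, hle⟩ :=
      PrimeSpectrum.isBasis_basic_opens.exists_subset_of_mem_open hx' hV'
    refine ⟨g0 ⁻¹ᵁ PrimeSpectrum.basicOpen f, ⟨f, rfl⟩, hxf, fun y hy => ?_⟩
    show y ∈ (U : Set _)
    rw [← e]
    exact hle hy
  haveI := isIso_toReal hF hB (by rintro _ ⟨f, rfl⟩; exact goodOpen_basicOpen hR hA' h f)
  rw [sys_eq] at e
  exact ⟨asIso (FSchCoh.toReal _ h F) ≪≫ realModIso h e⟩

end Groth.Agent.FSchTilde
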