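import Groth.Agent.FSchTilde.Affine

/-!
# Exactness of completion from Artin-Rees bounds on a basis of affine opens
-/

universe u

open CategoryTheory CategoryTheory.Limits AlgebraicGeometry TopologicalSpace Opposite

set_option autoImplicit false
set_option backward.isDefEq.respectTransparency false
set_option linter.style.haveILetI false

noncomputable section

namespace Groth.Agent.FSchTilde

open FSchCoh

section Gen

variable {X : Scheme.{u}} (𝔛 : FSch.Sys.{u}) (g : ∀ n, 𝔛.X n ⟶ X)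
  (hg : ∀ n, 𝔛.ι n ≫ g (n + 1) = g n) (h : 𝔛.IsFormal)
  [∀ n, IsClosedImmersion (g n)] (I : ∀ W : X.affineOpens, Ideal Γ(X, W.1))
  (hI : ∀ (W : X.affineOpens) n, RingHom.ker ((g n).app W.1).hom = I W ^ (n + 1))

omit [∀ n, IsClosedImmersion (g n)] in
theorem projM_realModMap' {F G : X.Modules} (φ : F ⟶ G) (ψ : gMod 𝔛 g hg F ⟶ gMod 𝔛 g hg G)
    (hψ : ∀ n, ψ.app n = (Scheme.Modules.pullback (g n)).map φ) {W : X.Opens} (n : ℕ)
    (x : ML 𝔛 h (gMod 𝔛 g hg F) (g 0 ⁻¹ᵁ W)) (a : Γ(F, W)) (ha : projM 𝔛 h _ _ n x = gS 𝔛 g hg h F W n a) :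
    projM 𝔛 h (gMod 𝔛 g hg G) _ n (app (FSch.ModSys.realModMap h ψ) (g 0 ⁻¹ᵁ W) x) =
      gS 𝔛 g hg h G W n (φ.app W a) := by
  refine (congrArg (fun t => app t (g 0 ⁻¹ᵁ W) x) (FSch.realLimMap_realProj 𝔛 h ψ.app
    (FSch.ModSys.Hom.toPush_comm ψ) n)).trans ?_
  show app ((FSch.levelMor 𝔛 h n).push.map (ψ.app n)) _ (projM 𝔛 h _ _ n x) = _
  rw [ha, hψ]
  exact gS_app 𝔛 g hg h F W φ n a

include hI in
theorem shortExact_gMod (S : ShortComplex X.Modules) (hS : S.ShortExact)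
    (h1 : Coh.IsQCoh S.X₁) (h2 : Coh.IsQCoh S.X₂) (h3 : Coh.IsQCoh S.X₃)
    (P : X.Opens → Prop) (hP : ∀ W, P W → IsAffineOpen W)
    (hB : Opens.IsBasis {U : Opens (𝔛.X 0) | ∃ W, P W ∧ U = g 0 ⁻¹ᵁ W})
    (hAR : ∀ (W : X.Opens) (hW : IsAffineOpen W), P W → ∃ k : ℕ, ∀ j (a : Γ(S.X₁, W)),
      QC.appₗ S.f W a ∈ (I ⟨W, hW⟩ ^ (j + k) • ⊤ : Submodule Γ(X, W) Γ(S.X₂, W)) →
        a ∈ (I ⟨W, hW⟩ ^ j • ⊤ : Submodule Γ(X, W) Γ(S.X₁, W)))
    (ψ₁ : gMod 𝔛 g hg S.X₁ ⟶ gMod 𝔛 g hg S.X₂) (hψ₁ : ∀ n, ψ₁.app n = (Scheme.Modules.pullback (g n)).map S.f)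
    (ψ₂ : gMod 𝔛 g hg S.X₂ ⟶ gMod 𝔛 g hg S.X₃) (hψ₂ : ∀ n, ψ₂.app n = (Scheme.Modules.pullback (g n)).map S.g) :
    FSch.ModSys.realModMap h ψ₁ ≫ FSch.ModSys.realModMap h ψ₂ = 0 ∧
      ∀ w : FSch.ModSys.realModMap h ψ₁ ≫ FSch.ModSys.realModMap h ψ₂ = 0,
        (ShortComplex.mk _ _ w).ShortExact := by
  let p := FSch.ModSys.realModMap h ψ₁
  let q := FSch.ModSys.realModMap h ψ₂
  haveI := hS.mono_f
  haveI := hS.epi_g
  let f₀ : ∀ W : X.Opens, Γ(S.X₁, W) →ₗ[Γ(X, W)] Γ(S.X₂, W) := fun W => QC.appₗ S.f W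
  let g₀ : ∀ W : X.Opens, Γ(S.X₂, W) →ₗ[Γ(X, W)] Γ(S.X₃, W) := fun W => QC.appₗ S.g W
  have hcomp : ∀ W a, g₀ W (f₀ W a) = 0 := fun W a =>
    congrArg (fun t : S.X₁ ⟶ S.X₃ => t.app W a) S.zero
  have hker : ∀ W t, g₀ W t = 0 → ∃ a, f₀ W a = t := fun W t ht => by
    obtain ⟨b, hb⟩ := (RSFin.kernel_sections (O := X.sheaf) S.g W).2 t ht
    let e := hS.fIsKernel.conePointUniqueUpToIso (kernelIsKernel S.g)
    have he : e.inv ≫ S.f = kernel.ι S.g :=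
      hS.fIsKernel.conePointUniqueUpToIso_inv_comp (kernelIsKernel S.g) WalkingParallelPair.zero
    refine ⟨e.inv.app W b, Eq.trans ?_ hb⟩
    exact congrArg (fun t : kernel S.g ⟶ S.X₂ => t.app W b) he
  have hsurj : ∀ (W : X.Opens), IsAffineOpen W → Function.Surjective (g₀ W) := fun W hW =>
    QC.app_surjective_of_epi hW h2 h3 S.g
  have hinj : ∀ W, Function.Injective (f₀ W) := fun W => QC.app_injective_of_mono S.f W
  have hpI : ∀ (W : X.Opens) (hW : IsAffineOpen W) (n : ℕ) (c : Γ(S.X₃, W)),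
      c ∈ (I ⟨W, hW⟩ ^ n • ⊤ : Submodule Γ(X, W) Γ(S.X₃, W)) →
        ∃ d ∈ (I ⟨W, hW⟩ ^ n • ⊤ : Submodule Γ(X, W) Γ(S.X₂, W)), g₀ W d = c := fun W hW n c hc => by
    rw [← LinearMap.range_eq_top.2 (hsurj W hW), ← Submodule.map_top, ← Submodule.map_smul''] at hc
    exact hc
  have hzero : p ≫ q = 0 := hom_ext_basis hB fun U hU x => by
    obtain ⟨W, hPW, rfl⟩ := hU
    have hW := hP W hPW
    refine ML_ext 𝔛 h _ _ fun n => ?_
    obtain ⟨a, ha⟩ := gS_surjective 𝔛 g hg h S.X₁ W h1 hW n (projM 𝔛 h _ _ n x)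
    refine (projM_realModMap' 𝔛 g hg h S.g ψ₂ hψ₂ n _ _ (projM_realModMap' 𝔛 g hg h S.f ψ₁ hψ₁ n x a ha.symm)).trans ?_
    refine ((gS_zero_iff' 𝔛 g hg h I hI h3 hW n _).2 ?_).trans (map_zero _).symm
    show g₀ W (f₀ W a) ∈ _
    rw [hcomp]
    exact Submodule.zero_mem _
  refine ⟨hzero, fun w => ?_⟩
  have hpinj : ∀ U ∈ {U : Opens (𝔛.X 0) | ∃ W, P W ∧ U = g 0 ⁻¹ᵁ W}, ∀ x, app p U x = 0 → x = 0 := by
    rintro U ⟨W, hPW, rfl⟩ x hx
    have hW := hP W hPW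
    obtain ⟨k, hk⟩ := hAR W hW hPW
    refine ML_ext 𝔛 h _ _ fun m => ?_
    obtain ⟨a, ha⟩ := gS_surjective 𝔛 g hg h S.X₁ W h1 hW (m + k) (projM 𝔛 h _ _ (m + k) x)
    rw [map_zero, proj_of_proj' 𝔛 g hg h (Nat.le_add_right m k) ha.symm, gS_zero_iff' 𝔛 g hg h I hI h1 hW]
    refine hk (m + 1) a ?_
    have h0 := projM_realModMap' 𝔛 g hg h S.f ψ₁ hψ₁ (m + k) x a ha.symm
    rw [hx, map_zero] at h0
    rw [show m + 1 + k = m + k + 1 by omega]
    exact (gS_zero_iff' 𝔛 g hg h I hI h2 hW _ _).1 h0.symm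
  haveI : Mono p := by
    refine ⟨fun {P} a b e => hom_ext_basis (Opens.isBasis_iff_nbhd.2 fun {U x} hx =>
      ⟨U, trivial, hx, le_rfl⟩ : Opens.IsBasis (Set.univ : Set (Opens (𝔛.X 0)))) fun U _ z => ?_⟩
    refine sect_ext fun y hy => ?_
    obtain ⟨V, hV, hyV, hVU⟩ := Opens.isBasis_iff_nbhd.1 hB hy
    refine ⟨V, hVU, hyV, sub_eq_zero.1 (hpinj V hV _ ?_)⟩
    have e' := congrArg (fun t => app t V (rs P hVU z)) e
    rw [← app_rs, ← app_rs]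
    show p.val.app (op V) (_ - _) = 0
    rw [map_sub]
    exact sub_eq_zero.2 e'
  haveI : Epi q := epi_of_basis hB q fun U hU y => by
    obtain ⟨W, hPW, rfl⟩ := hU
    have hW := hP W hPW
    choose c hc using fun n => gS_surjective 𝔛 g hg h S.X₃ W h3 hW n (projM 𝔛 h _ _ n y)
    have hc' : ∀ n, c (n + 1) - c n ∈ (I ⟨W, hW⟩ ^ (n + 1) • ⊤ : Submodule Γ(X, W) Γ(S.X₃, W)) := fun n => by
      rw [← gS_eq_iff' 𝔛 g hg h I hI h3 hW, hc n, ← gS_trans, hc (n + 1), transM_projM]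
    have step : ∀ n (b : {b // g₀ W b = c n}), ∃ b' : {b' // g₀ W b' = c (n + 1)},
        b'.1 - b.1 ∈ (I ⟨W, hW⟩ ^ (n + 1) • ⊤ : Submodule Γ(X, W) Γ(S.X₂, W)) := fun n b => by
      obtain ⟨d, hd, he⟩ := hpI W hW (n + 1) _ (hc' n)
      exact ⟨⟨b.1 + d, by rw [map_add, b.2, he, add_sub_cancel]⟩, by simpa using hd⟩
    choose next hnext using step
    let B : ∀ n, {b // g₀ W b = c n} := fun n => Nat.rec ⟨_, (hsurj W hW (c 0)).choose_spec⟩ next n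
    obtain ⟨x, hx⟩ := ML_lift 𝔛 h (gMod 𝔛 g hg S.X₂) (g 0 ⁻¹ᵁ W) (fun n => gS 𝔛 g hg h S.X₂ W n (B n).1) fun n => by
      rw [gS_trans, gS_eq_iff' 𝔛 g hg h I hI h2 hW]
      exact hnext n (B n)
    refine ⟨x, ML_ext 𝔛 h _ _ fun n => ?_⟩
    refine (projM_realModMap' 𝔛 g hg h S.g ψ₂ hψ₂ n x _ (hx n)).trans ((congrArg _ ?_).trans (hc n))
    exact (B n).2
  refine ShortComplex.ShortExact.mk' ?_ inferInstance inferInstance
  rw [ShortComplex.exact_iff_epi_kernel_lift]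
  refine epi_of_basis hB _ fun U hU t => ?_
  have hU' := hU
  obtain ⟨W, hPW, rfl⟩ := hU'
  have hW := hP W hPW
  obtain ⟨k, hk⟩ := hAR W hW hPW
  let x := app (kernel.ι q) (g 0 ⁻¹ᵁ W) t
  have hx : app q (g 0 ⁻¹ᵁ W) x = 0 := congrArg (fun s => app s (g 0 ⁻¹ᵁ W) t) (kernel.condition q)
  choose b hb using fun n => gS_surjective 𝔛 g hg h S.X₂ W h2 hW n (projM 𝔛 h _ _ n x)
  have ha : ∀ n, ∃ a, b n - f₀ W a ∈ (I ⟨W, hW⟩ ^ (n + 1) • ⊤ : Submodule Γ(X, W) Γ(S.X₂, W)) := fun n => by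
    have h0 := projM_realModMap' 𝔛 g hg h S.g ψ₂ hψ₂ n x (b n) (hb n).symm
    rw [hx, map_zero] at h0
    obtain ⟨d, hd, he⟩ := hpI W hW (n + 1) _ ((gS_zero_iff' 𝔛 g hg h I hI h3 hW n _).1 h0.symm)
    obtain ⟨a, ha⟩ := hker W (b n - d) (by rw [map_sub, he]; exact sub_self _)
    exact ⟨a, by rwa [ha, sub_sub_cancel]⟩
  choose a ha using ha
  obtain ⟨y, hy⟩ := ML_lift 𝔛 h (gMod 𝔛 g hg S.X₁) (g 0 ⁻¹ᵁ W) (fun n => gS 𝔛 g hg h S.X₁ W n (a (n + k))) fun n => by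
    rw [gS_trans, gS_eq_iff' 𝔛 g hg h I hI h1 hW]
    refine hk (n + 1) _ ?_
    rw [show n + 1 + k = n + k + 1 by omega, map_sub]
    have hbb : b (n + k + 1) - b (n + k) ∈ (I ⟨W, hW⟩ ^ (n + k + 1) • ⊤ : Submodule Γ(X, W) Γ(S.X₂, W)) := by
      rw [← gS_eq_iff' 𝔛 g hg h I hI h2 hW, hb (n + k), ← gS_trans, hb (n + k + 1), transM_projM]
    have h4 := Submodule.sub_mem _ (Submodule.add_mem _ hbb (ha (n + k)))
      (Submodule.smul_mono (Ideal.pow_le_pow_right (show n + k + 1 ≤ n + k + 1 + 1 by omega)) le_rfl (ha (n + k + 1)))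
    convert h4 using 1
    abel
  refine ⟨y, (RSFin.kernel_sections q _).1 ?_⟩
  show app (kernel.lift q p hzero ≫ kernel.ι q) _ y = x
  rw [kernel.lift_ι]
  refine ML_ext 𝔛 h _ _ fun n => ?_
  refine (projM_realModMap' 𝔛 g hg h S.f ψ₁ hψ₁ n y _ (hy n)).trans ?_
  rw [proj_of_proj' 𝔛 g hg h (Nat.le_add_right n k) (hb (n + k)).symm]
  symm
  rw [gS_eq_iff' 𝔛 g hg h I hI h2 hW]
  exact Submodule.smul_mono (Ideal.pow_le_pow_right (by omega)) le_rfl (ha (n + k))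


end Gen

section Loc

variable {A : Type u} [CommRing A] {A' : Type u} [CommRing A'] [Algebra A A'] {N N' : Type u}
  [AddCommGroup N] [AddCommGroup N'] [Module A N] [Module A N'] [Module A' N'] [IsScalarTower A A' N']
  (f : A) (ι : N →ₗ[A] N') [IsLocalizedModule.Away f ι]

theorem exists_pow_smul_mem (K : Ideal A) {x : N'} (hx : x ∈ (K.map (algebraMap A A')) • (⊤ : Submodule A' N')) :
    ∃ (s : ℕ) (y : N), y ∈ K • (⊤ : Submodule A N) ∧ f ^ s • x = ι y := by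
  have hx' : x ∈ K • (⊤ : Submodule A N') :=
    (Set.ext_iff.1 (FSchCoh.ker_comp_equiv_smul (R := A') K N') x).2 hx
  refine Submodule.smul_induction_on hx' (fun c hc m _ => ?_) fun y z hy hz => ?_
  · obtain ⟨⟨m₀, d⟩, hm⟩ := IsLocalizedModule.surj (Submonoid.powers f) ι m
    obtain ⟨r, hr⟩ := d.2
    refine ⟨r, c • m₀, Submodule.smul_mem_smul hc trivial, ?_⟩
    rw [map_smul, ← hm, smul_comm, Submonoid.smul_def, ← hr]
  · obtain ⟨s, y₁, hy₁, ey⟩ := hy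
    obtain ⟨t, z₁, hz₁, ez⟩ := hz
    refine ⟨s + t, f ^ t • y₁ + f ^ s • z₁,
      Submodule.add_mem _ (Submodule.smul_mem _ _ hy₁) (Submodule.smul_mem _ _ hz₁), ?_⟩
    rw [map_add, map_smul, map_smul, ← ey, ← ez, ← mul_smul, ← mul_smul, ← pow_add, ← pow_add, smul_add,
      add_comm t s]

theorem map_mem (K : Ideal A) {y : N} (hy : y ∈ K • (⊤ : Submodule A N)) :
    ι y ∈ (K.map (algebraMap A A')) • (⊤ : Submodule A' N') := by
  refine (Set.ext_iff.1 (FSchCoh.ker_comp_equiv_smul (R := A') K N') _).1 ?_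
  have h1 := Submodule.mem_map_of_mem (f := ι) hy
  rw [Submodule.map_smul''] at h1
  exact Submodule.smul_mono le_rfl le_top h1

end Loc

theorem exists_ar {R : Type u} [CommRing R] {I : Ideal R} (hR : AdicRing.IsBase R I) {A : Type u} [CommRing A]
    [Algebra R A] (hA : AdicRing.TopFiniteType R I A) {M N : Type u} [AddCommGroup M] [AddCommGroup N]
    [Module A M] [Module A N] [Module.Finite A N] (φ : M →ₗ[A] N) (hφ : Function.Injective φ) :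
    ∃ k : ℕ, ∀ j a, φ a ∈ I.map (algebraMap R A) ^ (j + k) • (⊤ : Submodule A N) →
      a ∈ I.map (algebraMap R A) ^ j • (⊤ : Submodule A M) := by
  letI : Module R N := Module.compHom N (algebraMap R A)
  haveI : IsScalarTower R A N := IsScalarTower.of_algebraMap_smul fun _ _ => rfl
  obtain ⟨k, hk⟩ := (TopFin.good_of_topFiniteType hR hA).2 N (LinearMap.range φ)
  refine ⟨k, fun j a ha => ?_⟩
  rw [← Ideal.map_pow] at ha ⊢
  have h1 : φ a ∈ I ^ (j + k) • (⊤ : Submodule R N) :=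
    (Set.ext_iff.1 (FSchCoh.ker_comp_equiv_smul (R := A) (I ^ (j + k)) N) _).2 ha
  have h2 := hk j ⟨h1, a, rfl⟩
  have h3 : φ a ∈ (I ^ j).map (algebraMap R A) • LinearMap.range φ := by
    rw [← Submodule.restrictScalars_mem R, Ideal.smul_restrictScalars]
    exact h2
  rw [← Submodule.map_top, ← Submodule.map_smul''] at h3
  obtain ⟨b, hb, he⟩ := h3
  rwa [← hφ he]

section LocAR

variable {A : Type u} [CommRing A] {A' : Type u} [CommRing A'] [Algebra A A'] {M M' N N' : Type u}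
  [AddCommGroup M] [AddCommGroup M'] [Module A M] [Module A M'] [Module A' M'] [IsScalarTower A A' M']
  [AddCommGroup N] [AddCommGroup N'] [Module A N] [Module A N'] [Module A' N'] [IsScalarTower A A' N']

theorem ar_loc (f : A) (ιM : M →ₗ[A] M') (ιN : N →ₗ[A] N') [IsLocalizedModule.Away f ιM] [IsLocalizedModule.Away f ιN]
    (hf : IsUnit (algebraMap A A' f)) (K : Ideal A) (φ : M →ₗ[A] N) (φ' : M' →ₗ[A'] N')
    (hnat : ∀ m, φ' (ιM m) = ιN (φ m)) {k : ℕ}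
    (hk : ∀ j a, φ a ∈ K ^ (j + k) • (⊤ : Submodule A N) → a ∈ K ^ j • (⊤ : Submodule A M)) (j : ℕ) (a : M')
    (ha : φ' a ∈ K.map (algebraMap A A') ^ (j + k) • (⊤ : Submodule A' N')) :
    a ∈ K.map (algebraMap A A') ^ j • (⊤ : Submodule A' M') := by
  rw [← Ideal.map_pow] at ha ⊢
  obtain ⟨⟨m, d⟩, hm⟩ := IsLocalizedModule.surj (Submonoid.powers f) ιM a
  obtain ⟨r, hr⟩ := d.2
  rw [Submonoid.smul_def, ← hr] at hm
  obtain ⟨s, y, hy, hys⟩ := exists_pow_smul_mem f ιN (K ^ (j + k)) ha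
  have h1 : ιN (f ^ s • φ m) = ιN (f ^ r • y) := by
    rw [map_smul, map_smul, ← hnat, ← hys, ← hm, LinearMap.map_smul_of_tower φ', smul_comm]
  obtain ⟨⟨c, t, rfl⟩, hc⟩ := (IsLocalizedModule.eq_iff_exists (Submonoid.powers f) ιN).1 h1
  simp only [Submonoid.smul_def] at hc
  have h2 : (f ^ t * f ^ s) • m ∈ K ^ j • (⊤ : Submodule A M) := by
    refine hk j _ ?_
    rw [map_smul, mul_smul, hc]
    exact Submodule.smul_mem _ _ (Submodule.smul_mem _ _ hy)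
  have h3 := map_mem (A' := A') ιM (K ^ j) h2
  rw [map_smul, ← hm, ← mul_smul, ← pow_add, ← pow_add] at h3
  have hu : IsUnit (algebraMap A A' (f ^ (t + s + r))) := by rw [map_pow]; exact hf.pow _
  rw [← IsScalarTower.algebraMap_smul A' (f ^ (t + s + r)) a] at h3
  exact (Submodule.smul_mem_iff_of_isUnit _ hu).1 h3

end LocAR

section Spec

variable {A : CommRingCat.{u}} (J : Ideal A)

theorem idealSpec_ideal (W : (Spec A).affineOpens) :
    (FSch.idealSpec A J).ideal W = J.map (algebraMap A Γ(Spec A, W.1)) := by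
  refine ((FSch.idealSpec A J).map_ideal (U := W) (V := ⟨⊤, isAffineOpen_top _⟩)
    (show W.1 ≤ ⊤ from le_top)).symm.trans ?_
  rw [FittLib.idealSpec_ideal_top, show J.comap (Scheme.ΓSpecIso (CommRingCat.of A)).hom.hom =
      J.map (Scheme.ΓSpecIso (CommRingCat.of A)).inv.hom from
      (Ideal.map_symm (I := J) (Scheme.ΓSpecIso (CommRingCat.of A)).commRingCatIsoToRingEquiv).symm,
    Ideal.map_map]
  rfl

theorem ar_basicOpen {M N : ModuleCat.{u} A} (φ : M ⟶ N) {k : ℕ}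
    (hk : ∀ j a, φ.hom a ∈ J ^ (j + k) • (⊤ : Submodule A N) → a ∈ J ^ j • (⊤ : Submodule A M)) (f : A)
    (hW : IsAffineOpen (X := Spec A) (PrimeSpectrum.basicOpen f)) (j : ℕ) (a : Γ(tilde M, PrimeSpectrum.basicOpen f))
    (ha : QC.appₗ (tilde.map φ) (PrimeSpectrum.basicOpen f) a ∈
      ((FSch.idealSpec A J).ideal ⟨_, hW⟩ ^ (j + k) • ⊤ :
        Submodule Γ(Spec A, PrimeSpectrum.basicOpen f) Γ(tilde N, PrimeSpectrum.basicOpen f))) :
    a ∈ ((FSch.idealSpec A J).ideal ⟨_, hW⟩ ^ j • ⊤ :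
      Submodule Γ(Spec A, PrimeSpectrum.basicOpen f) Γ(tilde M, PrimeSpectrum.basicOpen f)) := by
  let U : (Spec A).Opens := PrimeSpectrum.basicOpen f
  rw [idealSpec_ideal] at ha ⊢
  haveI : IsLocalizedModule.Away f (show M →ₗ[A] Γ(tilde M, U) from (tilde.toOpen M U).hom) :=
    inferInstanceAs (IsLocalizedModule.Away f (tilde.toOpen M (PrimeSpectrum.basicOpen f)).hom)
  haveI : IsLocalizedModule.Away f (show N →ₗ[A] Γ(tilde N, U) from (tilde.toOpen N U).hom) :=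
    inferInstanceAs (IsLocalizedModule.Away f (tilde.toOpen N (PrimeSpectrum.basicOpen f)).hom)
  exact ar_loc (A' := Γ(Spec A, U)) f (show M →ₗ[A] Γ(tilde M, U) from (tilde.toOpen M U).hom)
    (show N →ₗ[A] Γ(tilde N, U) from (tilde.toOpen N U).hom)
    (IsLocalization.Away.algebraMap_isUnit (S := Γ(Spec A, PrimeSpectrum.basicOpen f)) f) J φ.hom
    (QC.appₗ (tilde.map φ) U) (fun m => congr($(tilde.toOpen_map_app φ U).hom m)) hk j a ha

end Spec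

end Groth.Agent.FSchTilde
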