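import Groth.Agent.FSchTilde.Hom

/-!
# Functoriality of the completion of modules
-/

universe u

open CategoryTheory CategoryTheory.Limits AlgebraicGeometry

set_option autoImplicit false
set_option backward.isDefEq.respectTransparency false
set_option linter.style.haveILetI false

noncomputable section

namespace Groth.Agent.FSchTilde

variable {X : Scheme.{u}} (𝓘 : X.IdealSheafData) (h : (FSch.completionAlong X 𝓘).IsFormal)

/-- the completion of a morphism of modules -/
abbrev cΔ {F G : X.Modules} (φ : F ⟶ G) : (FSch.complMod 𝓘 F).realMod h ⟶ (FSch.complMod 𝓘 G).realMod h :=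
  FSch.ModSys.realModMap h (FSch.complModMap 𝓘 φ)

theorem complModMap_comp {F G H : X.Modules} (φ : F ⟶ G) (ψ : G ⟶ H) :
    FSch.complModMap 𝓘 (φ ≫ ψ) = FSch.complModMap 𝓘 φ ≫ FSch.complModMap 𝓘 ψ := by
  refine FSch.ModSys.Hom.ext (funext fun n => ?_)
  rw [FSch.complModMap_app, Functor.map_comp]
  rfl

theorem complModMap_id (F : X.Modules) : FSch.complModMap 𝓘 (𝟙 F) = 𝟙 (FSch.complMod 𝓘 F) := by
  refine FSch.ModSys.Hom.ext (funext fun n => ?_)
  rw [FSch.complModMap_app, CategoryTheory.Functor.map_id]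
  rfl

theorem cΔ_comp {F G H : X.Modules} (φ : F ⟶ G) (ψ : G ⟶ H) : cΔ 𝓘 h (φ ≫ ψ) = cΔ 𝓘 h φ ≫ cΔ 𝓘 h ψ := by
  rw [cΔ, complModMap_comp, realModMap_comp]

theorem cΔ_id (F : X.Modules) : cΔ 𝓘 h (𝟙 F) = 𝟙 _ := by
  rw [cΔ, complModMap_id, realModMap_id]

theorem cΔ_zero (F G : X.Modules) : cΔ 𝓘 h (0 : F ⟶ G) = 0 := by
  refine realMod_hom_ext _ h fun k => ?_
  refine (realModMap_proj _ h _ k).trans ?_
  rw [FSch.complModMap_app, Functor.map_zero]
  refine (congrArg _ ((FSch.levelMor _ h k).push.map_zero _ _)).trans ?_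
  exact comp_zero.trans zero_comp.symm

end Groth.Agent.FSchTilde
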