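import Groth.Agent.FSchTilde.GoodBasis
import Groth.Agent.FSchTilde.Exact
import Groth.Agent.TopFin.Fp

/-!
# Basic opens of a completed affine scheme are good
-/

universe u

open CategoryTheory CategoryTheory.Limits AlgebraicGeometry TopologicalSpace Opposite

set_option autoImplicit false
set_option backward.isDefEq.respectTransparency false
set_option linter.style.haveILetI false

noncomputable section

namespace Groth.Agent.FSchTilde

open FSchCoh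

section Gen

variable {X : Scheme.{u}} (𝔛 : FSch.Sys.{u}) (g : ∀ n, 𝔛.X n ⟶ X)
  (hg : ∀ n, 𝔛.ι n ≫ g (n + 1) = g n) (h : 𝔛.IsFormal) (W : X.Opens)

/-- the map from functions on an open to the limit -/
def toOA : Γ(X, W) →+* OA 𝔛 h (g 0 ⁻¹ᵁ W) :=
  let c := fun b => (OA_lift 𝔛 h (g 0 ⁻¹ᵁ W) _ fun m => gR_trans 𝔛 g hg h W m b).choose
  have hc : ∀ b m, projR 𝔛 h (g 0 ⁻¹ᵁ W) m (c b) = gR 𝔛 g hg h W m b := fun b =>
    (OA_lift 𝔛 h (g 0 ⁻¹ᵁ W) _ fun m => gR_trans 𝔛 g hg h W m b).choose_spec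
  { toFun := c
    map_one' := OA_ext 𝔛 h _ fun m => by rw [hc, map_one]; exact map_one ((g m).appLE W _ _).hom
    map_mul' := fun a b => OA_ext 𝔛 h _ fun m => by
      rw [hc, map_mul, hc, hc]; exact map_mul ((g m).appLE W _ _).hom a b
    map_zero' := OA_ext 𝔛 h _ fun m => by rw [hc, map_zero]; exact map_zero ((g m).appLE W _ _).hom
    map_add' := fun a b => OA_ext 𝔛 h _ fun m => by
      rw [hc, map_add, hc, hc]; exact map_add ((g m).appLE W _ _).hom a b }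

theorem projR_toOA (m : ℕ) (b : Γ(X, W)) :
    projR 𝔛 h (g 0 ⁻¹ᵁ W) m (toOA 𝔛 g hg h W b) = gR 𝔛 g hg h W m b :=
  (OA_lift 𝔛 h (g 0 ⁻¹ᵁ W) _ fun m => gR_trans 𝔛 g hg h W m b).choose_spec m

/-- the map to a level -/
def gRHom (n : ℕ) : Γ(X, W) →+* RA 𝔛 h (g 0 ⁻¹ᵁ W) n :=
  ((g n).appLE W (𝔛.lvU h n (g 0 ⁻¹ᵁ W)) (lvU_g 𝔛 g hg h W n).le).hom

variable [∀ n, IsClosedImmersion (g n)] {W} (hW : IsAffineOpen W)

include hW in
theorem gRHom_surjective (n : ℕ) : Function.Surjective (gRHom 𝔛 g hg h W n) := by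
  intro z
  let j := homOfLE (lvU_g 𝔛 g hg h W n).le
  haveI : IsIso j := ⟨homOfLE (lvU_g 𝔛 g hg h W n).ge, Subsingleton.elim _ _, Subsingleton.elim _ _⟩
  obtain ⟨z₁, rfl⟩ := (ConcreteCategory.bijective_of_isIso ((𝔛.X n).presheaf.map j.op)).2 z
  obtain ⟨b, rfl⟩ := (g n).app_surjective W hW z₁
  exact ⟨b, rfl⟩

variable (J : Ideal Γ(X, W)) (hJ : J.FG) (hI : ∀ n, RingHom.ker ((g n).app W).hom = J ^ (n + 1))

include hW hI in
theorem ker_gRHom (n : ℕ) : RingHom.ker (gRHom 𝔛 g hg h W n) = J ^ (n + 1) := by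
  refine (ker_appLE_eq (g n) hW (lvU_g 𝔛 g hg h W n)).trans ?_
  rw [Scheme.Hom.ker_apply, hI]

include hW hI hJ in
theorem good_aux :
    (∀ n, Function.Surjective ((projR 𝔛 h (g 0 ⁻¹ᵁ W) n).comp (toOA 𝔛 g hg h W))) ∧
    (∀ n, RingHom.ker (projR 𝔛 h (g 0 ⁻¹ᵁ W) n) = (J ^ (n + 1)).map (toOA 𝔛 g hg h W)) ∧
    IsAdicComplete (J.map (toOA 𝔛 g hg h W)) (OA 𝔛 h (g 0 ⁻¹ᵁ W)) := by
  letI : Algebra Γ(X, W) (OA 𝔛 h (g 0 ⁻¹ᵁ W)) := (toOA 𝔛 g hg h W).toAlgebra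
  letI : ∀ n, Algebra Γ(X, W) (RA 𝔛 h (g 0 ⁻¹ᵁ W) n) := fun n => (gRHom 𝔛 g hg h W n).toAlgebra
  let f : ∀ n, RA 𝔛 h (g 0 ⁻¹ᵁ W) (n + 1) →ₗ[Γ(X, W)] RA 𝔛 h (g 0 ⁻¹ᵁ W) n := fun n =>
    { toFun := transR 𝔛 h (g 0 ⁻¹ᵁ W) n
      map_add' := map_add _
      map_smul' := fun a x => by
        show transR 𝔛 h _ n (gR 𝔛 g hg h W (n + 1) a * x) = gR 𝔛 g hg h W n a * transR 𝔛 h _ n x
        rw [map_mul, gR_trans] }
  let π : ∀ n, OA 𝔛 h (g 0 ⁻¹ᵁ W) →ₗ[Γ(X, W)] RA 𝔛 h (g 0 ⁻¹ᵁ W) n := fun n =>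
    { toFun := projR 𝔛 h (g 0 ⁻¹ᵁ W) n
      map_add' := map_add _
      map_smul' := fun a x => by
        show projR 𝔛 h _ n (toOA 𝔛 g hg h W a * x) = gR 𝔛 g hg h W n a * projR 𝔛 h _ n x
        rw [map_mul, projR_toOA] }
  have hlim : AdicLim.IsLimit f π :=
    { comm := fun n => LinearMap.ext (transR_projR 𝔛 h _ n)
      inj := fun x hx => OA_ext 𝔛 h _ fun n => (hx n).trans (map_zero _).symm
      lift := fun y hy => OA_lift 𝔛 h _ y hy }
  have hsurj := gRHom_surjective 𝔛 g hg h hW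
  have hker := ker_gRHom 𝔛 g hg h hW J hI
  have hf : ∀ n, Function.Surjective (f n) := fun n z => by
    obtain ⟨b, rfl⟩ := hsurj n z
    exact ⟨gR 𝔛 g hg h W (n + 1) b, gR_trans 𝔛 g hg h W n b⟩
  have hfk : ∀ n, LinearMap.ker (f n) = J ^ (n + 1) • (⊤ : Submodule Γ(X, W) (RA 𝔛 h (g 0 ⁻¹ᵁ W) (n + 1))) := fun n => by
    rw [Ideal.smul_top_eq_map]
    ext y
    obtain ⟨b, rfl⟩ := hsurj (n + 1) y
    show transR 𝔛 h _ n (gR 𝔛 g hg h W (n + 1) b) = 0 ↔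
      gRHom 𝔛 g hg h W (n + 1) b ∈ (J ^ (n + 1)).map (gRHom 𝔛 g hg h W (n + 1))
    rw [gR_trans, Ideal.mem_map_iff_of_surjective _ (hsurj _)]
    constructor
    · intro hb
      exact ⟨b, hker n ▸ (RingHom.mem_ker (f := gRHom 𝔛 g hg h W n)).2 hb, rfl⟩
    · rintro ⟨c, hc, hcb⟩
      rw [← hker n, RingHom.mem_ker] at hc
      refine Eq.trans ?_ hc
      show gR 𝔛 g hg h W n b = gR 𝔛 g hg h W n c
      exact ((gR_trans 𝔛 g hg h W n b).symm.trans (congrArg (transR 𝔛 h _ n) hcb.symm)).trans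
        (gR_trans 𝔛 g hg h W n c)
  have hk := hlim.ker_eq_of_fg J hf hfk hJ
  have hk' : ∀ n, RingHom.ker (projR 𝔛 h (g 0 ⁻¹ᵁ W) n) = (J ^ (n + 1)).map (toOA 𝔛 g hg h W) := fun n => by
    ext x
    have := SetLike.ext_iff.1 (hk n) x
    rw [Ideal.smul_top_eq_map] at this
    exact this
  refine ⟨fun n z => ?_, hk', (IsAdicComplete.map_algebraMap_iff J _).2 (hlim.isAdicComplete_of_ker_eq J hf hfk hk)⟩
  obtain ⟨b, rfl⟩ := hsurj n z
  exact ⟨b, projR_toOA 𝔛 g hg h W n b⟩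

end Gen

theorem closed_of_topFiniteType {R : Type u} [CommRing R] {I : Ideal R} (hR : AdicRing.IsBase R I)
    {O : Type u} [CommRing O] [Algebra R O] (hO : AdicRing.TopFiniteType R I O) {ι : Type u} [Fintype ι]
    (S : Submodule O (ι → O)) (c : ι → O)
    (hc : ∀ n, c ∈ S ⊔ I.map (algebraMap R O) ^ (n + 1) • (⊤ : Submodule O (ι → O))) : c ∈ S := by
  haveI := isAdicComplete_map hR hO ((ι → O) ⧸ S)
  rw [← Submodule.Quotient.mk_eq_zero]
  refine IsHausdorff.haus (I := I.map (algebraMap R O)) inferInstance _ fun n => ?_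
  rw [SModEq.zero]
  obtain ⟨y, hy, z, hz, hyz⟩ := Submodule.mem_sup.1 (hc n)
  rw [← hyz]
  show S.mkQ (y + z) ∈ _
  rw [map_add, show S.mkQ y = 0 from (Submodule.Quotient.mk_eq_zero S).2 hy, zero_add]
  have h1 := Submodule.mem_map_of_mem (f := S.mkQ) hz
  rw [Submodule.map_smul''] at h1
  exact Submodule.smul_mono (Ideal.pow_le_pow_right (Nat.le_succ n)) le_top h1

section Spec

variable {R : Type u} [CommRing R] {I : Ideal R} (hR : AdicRing.IsBase R I) {A : CommRingCat.{u}} [Algebra R A]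
  (hA : AdicRing.TopFiniteType R I A)
  (h : (FSch.completionAlong (Spec (CommRingCat.of A)) (FSch.idealSpec A (I.map (algebraMap R A)))).IsFormal)

include hR hA in
theorem goodOpen_basicOpen (f : A) :
    GoodOpen (FSch.completionAlong (Spec A) (FSch.idealSpec A (I.map (algebraMap R A)))) h
      (FSch.completionToX (Spec A) (FSch.idealSpec A (I.map (algebraMap R A))) 0 ⁻¹ᵁ PrimeSpectrum.basicOpen f) := by
  let 𝔛 := FSch.completionAlong (Spec A) (FSch.idealSpec A (I.map (algebraMap R A)))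
  let g := FSch.completionToX (Spec A) (FSch.idealSpec A (I.map (algebraMap R A)))
  haveI : ∀ n, IsClosedImmersion (g n) := fun n =>
    inferInstanceAs (IsClosedImmersion ((FSch.idealSpec A (I.map (algebraMap R A))) ^ (n + 1)).subschemeι)
  let W : (Spec A).Opens := PrimeSpectrum.basicOpen f
  have hW : IsAffineOpen W := IsAffineOpen.Spec_basicOpen f
  let J := (FSch.idealSpec A (I.map (algebraMap R A))).ideal ⟨W, hW⟩
  have hJfg : J.FG := fg_idealSpec (A := A) _ (fg_map hR) ⟨W, hW⟩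
  obtain ⟨hsurj, hker, hcompl⟩ := good_aux 𝔛 g (completion_hg _) h hW J hJfg
    (fun n => ker_completionToX _ hW n)
  set γ := toOA 𝔛 g (completion_hg _) h W with hγ
  have hJA : JA 𝔛 h (g 0 ⁻¹ᵁ W) = J.map γ := (hker 0).trans (by rw [zero_add, pow_one])
  refine ⟨hW.preimage (g 0), hJA ▸ hcompl, fun n => by rw [hker n, hJA, Ideal.map_pow], fun S _ c hc => ?_⟩
  letI : Algebra R Γ(Spec A, W) := ((algebraMap A Γ(Spec A, W)).comp (algebraMap R A)).toAlgebra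
  haveI : IsScalarTower R A Γ(Spec A, W) := IsScalarTower.of_algebraMap_eq fun _ => rfl
  letI : Algebra R (OA 𝔛 h (g 0 ⁻¹ᵁ W)) := (γ.comp (algebraMap R Γ(Spec A, W))).toAlgebra
  have hJ' : I.map (algebraMap R (OA 𝔛 h (g 0 ⁻¹ᵁ W))) = J.map γ := by
    show I.map (γ.comp (algebraMap R Γ(Spec A, W))) = _
    rw [← Ideal.map_map, IsScalarTower.algebraMap_eq R A Γ(Spec A, W), ← Ideal.map_map]
    congr 1
    exact (idealSpec_ideal (I.map (algebraMap R A)) ⟨W, hW⟩).symm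
  haveI : IsAdicComplete (I.map (algebraMap R (OA 𝔛 h (g 0 ⁻¹ᵁ W)))) (OA 𝔛 h (g 0 ⁻¹ᵁ W)) := hJ' ▸ hcompl
  have hIfg := AdicRingLib.fg_of_isBase hR
  have hft : Algebra.FiniteType R (Γ(Spec A, W) ⧸ (I.map (algebraMap R A)).map (algebraMap A Γ(Spec A, W))) := by
    haveI : Algebra.FinitePresentation A Γ(Spec A, W) := IsLocalization.Away.finitePresentation (S := Γ(Spec A, W)) f
    haveI : Algebra.FiniteType A Γ(Spec A, W) := Algebra.FiniteType.of_finitePresentation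
    haveI := TopFin.finiteType_trunc hIfg hA 1
    rw [pow_one] at this
    haveI : Algebra.FiniteType A (Γ(Spec A, W) ⧸ (I.map (algebraMap R A)).map (algebraMap A Γ(Spec A, W))) :=
      Algebra.FiniteType.of_surjective (Ideal.Quotient.mkₐ A _) (Ideal.Quotient.mkₐ_surjective A _)
    haveI : Algebra.FiniteType (A ⧸ I.map (algebraMap R A))
        (Γ(Spec A, W) ⧸ (I.map (algebraMap R A)).map (algebraMap A Γ(Spec A, W))) :=
      Algebra.FiniteType.of_restrictScalars_finiteType A _ _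
    haveI : IsScalarTower R (A ⧸ I.map (algebraMap R A))
        (Γ(Spec A, W) ⧸ (I.map (algebraMap R A)).map (algebraMap A Γ(Spec A, W))) :=
      IsScalarTower.of_algebraMap_eq fun _ => rfl
    exact Algebra.FiniteType.trans (S := A ⧸ I.map (algebraMap R A)) ‹_› ‹_›
  refine closed_of_topFiniteType hR (TopFin.topFiniteType_of_finiteType hIfg ?_) S c fun n => by
    rw [hJ', ← hJA]; exact hc n
  let ψ : Γ(Spec A, W) →ₐ[R] OA 𝔛 h (g 0 ⁻¹ᵁ W) ⧸ I.map (algebraMap R (OA 𝔛 h (g 0 ⁻¹ᵁ W))) :=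
    (Ideal.Quotient.mkₐ R _).comp { γ with commutes' := fun _ => rfl }
  haveI := hft
  refine Algebra.FiniteType.of_surjective (Ideal.Quotient.liftₐ ((I.map (algebraMap R A)).map (algebraMap A Γ(Spec A, W))) ψ fun b hb => ?_) fun z => ?_
  · refine Ideal.Quotient.eq_zero_iff_mem.2 ?_
    show γ b ∈ _
    rw [hJ']
    refine Ideal.mem_map_of_mem γ ?_
    rw [show J = (I.map (algebraMap R A)).map (algebraMap A Γ(Spec A, W)) from
      idealSpec_ideal (I.map (algebraMap R A)) ⟨W, hW⟩]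
    exact hb
  · obtain ⟨z', rfl⟩ := Ideal.Quotient.mk_surjective z
    obtain ⟨b, hb⟩ := hsurj 0 (projR 𝔛 h (g 0 ⁻¹ᵁ W) 0 z')
    refine ⟨Ideal.Quotient.mk _ b, ?_⟩
    show Ideal.Quotient.mk _ (γ b) = Ideal.Quotient.mk _ z'
    rw [Ideal.Quotient.eq, hJ', ← hJA]
    show projR 𝔛 h (g 0 ⁻¹ᵁ W) 0 (γ b - z') = 0
    rw [map_sub]
    exact sub_eq_zero.2 hb

end Spec

end Groth.Agent.FSchTilde
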