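import Groth.Agent.FSchCoh.Coh

/-!
# A finitely presented module is the limit of its inverse images, over a basis of good opens
-/

universe u

open CategoryTheory CategoryTheory.Limits AlgebraicGeometry TopologicalSpace Opposite
open Groth.Agent.RSFin (sc rsR Gen Rel spanOn)

set_option autoImplicit false
set_option backward.isDefEq.respectTransparency false
set_option linter.style.haveILetI false

noncomputable section

namespace Groth.Agent.FSchTilde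

open FSchCoh

/-- An affine open over which the structure sheaf is complete with closed finite submodules of free modules. -/
structure GoodOpen (𝔛 : FSch.Sys.{u}) (h : 𝔛.IsFormal) (U : (𝔛.X 0).Opens) : Prop where
  affine : IsAffineOpen U
  complete : IsAdicComplete (JA 𝔛 h U) (OA 𝔛 h U)
  ker : ∀ n, RingHom.ker (projR 𝔛 h U n) = JA 𝔛 h U ^ (n + 1)
  closed : ∀ {ι : Type u} [Fintype ι] (S : Submodule (OA 𝔛 h U) (ι → OA 𝔛 h U)), S.FG →
    ∀ c, (∀ n, c ∈ S ⊔ JA 𝔛 h U ^ (n + 1) • (⊤ : Submodule (OA 𝔛 h U) (ι → OA 𝔛 h U))) → c ∈ S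

variable {𝔛 : FSch.Sys.{u}} {h : 𝔛.IsFormal}

theorem GoodOpen.le_jacobson {U : (𝔛.X 0).Opens} (hU : GoodOpen 𝔛 h U) : JA 𝔛 h U ≤ Ideal.jacobson ⊥ :=
  @IsAdicComplete.le_jacobson_bot _ _ _ hU.complete

theorem isCoh_pullSys' (F : FSch.ModF 𝔛 h) (hF : FSch.IsCohF 𝔛 h F) : (pullSys 𝔛 h F).IsCoh := fun k => by
  haveI : SheafOfModules.IsFinitePresentation (R := ModSite.ringSh (𝔛.X k).sheaf)
      ((FSch.levelMor 𝔛 h k).pull.obj F) :=
    @PullFlat.isFinitePresentation_pull _ _ _ _ _ _ _ _ (FSch.levelMor 𝔛 h k) F hF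
  exact ⟨(inferInstance : SheafOfModules.IsQuasicoherent (R := ModSite.ringSh (𝔛.X k).sheaf)
      ((FSch.levelMor 𝔛 h k).pull.obj F)),
    (inferInstance : SheafOfModules.IsFiniteType (R := ModSite.ringSh (𝔛.X k).sheaf)
      ((FSch.levelMor 𝔛 h k).pull.obj F))⟩

theorem isFP_pullSys (F : FSch.ModF 𝔛 h) (hF : FSch.IsCohF 𝔛 h F) (k : ℕ) :
    CohB1.IsFP ((pullSys 𝔛 h F).F k) :=
  @PullFlat.isFinitePresentation_pull _ _ _ _ _ _ _ _ (FSch.levelMor 𝔛 h k) F hF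

section Mod

variable (𝔛) (h) (𝔐 : FSch.ModSys 𝔛) {U : (𝔛.X 0).Opens}

theorem main_mod (hU : GoodOpen 𝔛 h U) (hM : 𝔐.IsCoh) :
    Module.Finite (OA 𝔛 h U) (ML 𝔛 h 𝔐 U) ∧
      (∀ n, Function.Surjective (projM 𝔛 h 𝔐 U n)) ∧
      ∀ n, LinearMap.ker (projM 𝔛 h 𝔐 U n) = JA 𝔛 h U ^ (n + 1) • ⊤ := by
  have hk := hU.ker
  haveI := hU.complete
  have hlim : AdicLim.IsLimit (transM 𝔛 h 𝔐 U) (projM 𝔛 h 𝔐 U) :=
    { comm := fun n => LinearMap.ext (transM_projM 𝔛 h 𝔐 U n)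
      inj := fun x hx => ML_ext 𝔛 h 𝔐 U fun n => (hx n).trans (map_zero _).symm
      lift := fun y hy => ML_lift 𝔛 h 𝔐 U y hy }
  have hsurj := transM_surjective 𝔛 h 𝔐 hM hU.affine
  have hfk : ∀ n, LinearMap.ker (transM 𝔛 h 𝔐 U n) =
      JA 𝔛 h U ^ (n + 1) • (⊤ : Submodule (OA 𝔛 h U) (MA 𝔛 h 𝔐 U (n + 1))) := fun n => by
    letI : Module (RA 𝔛 h U (n + 1)) (MA 𝔛 h 𝔐 U (n + 1)) :=
      inferInstanceAs (Module (RA 𝔛 h U (n + 1)) Γ(𝔐.F (n + 1), 𝔛.lvU h (n + 1) U))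
    haveI : IsScalarTower (OA 𝔛 h U) (RA 𝔛 h U (n + 1)) (MA 𝔛 h 𝔐 U (n + 1)) :=
      IsScalarTower.of_algebraMap_smul fun _ _ => rfl
    have hr : RingHom.ker (transR 𝔛 h U n) =
        (JA 𝔛 h U ^ (n + 1)).map (algebraMap (OA 𝔛 h U) (RA 𝔛 h U (n + 1))) := by
      rw [← hk n]
      ext x
      show transR 𝔛 h U n x = 0 ↔ x ∈ (RingHom.ker (projR 𝔛 h U n)).map (projR 𝔛 h U (n + 1))
      rw [Ideal.mem_map_iff_of_surjective _ (projR_surjective 𝔛 h hU.affine (n + 1))]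
      constructor
      · intro hx
        obtain ⟨y, rfl⟩ := projR_surjective 𝔛 h hU.affine (n + 1) x
        exact ⟨y, by rw [RingHom.mem_ker, ← transR_projR]; exact hx, rfl⟩
      · rintro ⟨y, hy, rfl⟩
        rw [transR_projR]
        exact hy
    refine Submodule.ext fun y => ?_
    rw [LinearMap.mem_ker, transM_eq_zero_iff 𝔛 h 𝔐 hM hU.affine, hr]
    exact (Set.ext_iff.1 (ker_comp_equiv_smul (R := RA 𝔛 h U (n + 1)) (JA 𝔛 h U ^ (n + 1)) _) y).symm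
  haveI : Module.Finite (OA 𝔛 h U) (MA 𝔛 h 𝔐 U 0) := by
    letI : Module (RA 𝔛 h U 0) (MA 𝔛 h 𝔐 U 0) :=
      inferInstanceAs (Module (RA 𝔛 h U 0) Γ(𝔐.F 0, 𝔛.lvU h 0 U))
    haveI : IsScalarTower (OA 𝔛 h U) (RA 𝔛 h U 0) (MA 𝔛 h 𝔐 U 0) :=
      IsScalarTower.of_algebraMap_smul fun _ _ => rfl
    haveI : Module.Finite (OA 𝔛 h U) (RA 𝔛 h U 0) :=
      Module.Finite.of_surjective (Algebra.linearMap (OA 𝔛 h U) (RA 𝔛 h U 0)) (projR_surjective 𝔛 h hU.affine 0)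
    haveI : Module.Finite (RA 𝔛 h U 0) (MA 𝔛 h 𝔐 U 0) :=
      QC.finite_sections (FSchAff.isAffineOpen_lvU 𝔛 h hU.affine 0) (hM := (hM 0).1) (hM 0).2
    exact Module.Finite.trans (RA 𝔛 h U 0) _
  obtain ⟨hf, hker⟩ := hlim.finite_and_ker_eq (JA 𝔛 h U) hsurj hfk
  exact ⟨hf, hlim.surjective hsurj, hker⟩

end Mod

variable {F : FSch.ModF 𝔛 h}

variable (hF : FSch.IsCohF 𝔛 h F)
include hF

theorem span_toReal_eq_top {U : (𝔛.X 0).Opens} (hU : GoodOpen 𝔛 h U) {ι : Type*} [Fintype ι]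
    {s : ι → ModSite.sect F U} (hs : Gen F s) :
    Submodule.span (OA 𝔛 h U) (Set.range fun i => (RSFin.ap (toReal 𝔛 h F) U (s i) : ML 𝔛 h (pullSys 𝔛 h F) U)) = ⊤ := by
  have hM := isCoh_pullSys' F hF
  obtain ⟨hfin, -, hker⟩ := main_mod 𝔛 h (pullSys 𝔛 h F) hU hM
  haveI := hfin
  refine eq_top_iff.2 (Submodule.le_of_le_smul_of_le_jacobson_bot (Module.Finite.fg_top)
    hU.le_jacobson fun t _ => ?_)
  have hmem : (show Γ((pullSys 𝔛 h F).F 0, 𝔛.lvU h 0 U) from projM 𝔛 h (pullSys 𝔛 h F) U 0 t) ∈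
      Submodule.span (RA 𝔛 h U 0) (Set.range fun i => uS 0 U (s i)) :=
    (span_uS_eq_top 0 hU.affine (hM 0).1 hs).symm ▸ Submodule.mem_top
  obtain ⟨c, hc⟩ := (Submodule.mem_span_range_iff_exists_fun _).1 hmem
  choose c' hc' using fun i => projR_surjective 𝔛 h hU.affine 0 (c i)
  rw [Submodule.mem_sup]
  refine ⟨∑ i, c' i • (RSFin.ap (toReal 𝔛 h F) U (s i) : ML 𝔛 h (pullSys 𝔛 h F) U),
    (Submodule.mem_span_range_iff_exists_fun _).2 ⟨c', rfl⟩, t - ∑ i, c' i • _, ?_, add_sub_cancel _ _⟩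
  have h1 : t - ∑ i, c' i • (RSFin.ap (toReal 𝔛 h F) U (s i) : ML 𝔛 h (pullSys 𝔛 h F) U) ∈
      LinearMap.ker (projM 𝔛 h (pullSys 𝔛 h F) U 0) := by
    rw [LinearMap.mem_ker, map_sub, map_sum, sub_eq_zero]
    refine hc.symm.trans (Finset.sum_congr rfl fun i _ => ?_)
    rw [map_smul, projM_toReal, ← hc' i]
    rfl
  rw [hker, zero_add, pow_one] at h1
  exact h1

theorem comb_eq_zero {U : (𝔛.X 0).Opens} (hU : GoodOpen 𝔛 h U) {ι κ : Type u} [Fintype ι] [Fintype κ]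
    {s : ι → ModSite.sect F U} {r : κ → ι → sc (𝔛.Osh h) U} (hs : Gen F s) (hr : Rel F s r)
    (c : ι → sc (𝔛.Osh h) U) (hc : RSFin.ap (toReal 𝔛 h F) U (∑ i, c i • s i) = 0) : ∑ i, c i • s i = 0 := by
  let S : Submodule (OA 𝔛 h U) (ι → OA 𝔛 h U) := Submodule.span (OA 𝔛 h U) (Set.range r)
  have key : ∀ n, (show ι → OA 𝔛 h U from c) ∈
      S ⊔ JA 𝔛 h U ^ (n + 1) • (⊤ : Submodule (OA 𝔛 h U) (ι → OA 𝔛 h U)) := by
    intro n
    have h1 : uS n U (∑ i, c i • s i) = 0 := by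
      rw [← projM_toReal, hc, map_zero]
    rw [uS_comb] at h1
    obtain ⟨d, hd⟩ := (Submodule.mem_span_range_iff_exists_fun _).1 (mem_span_of_uS n hU.affine hs hr _ h1)
    choose d' hd' using fun j => projR_surjective 𝔛 h hU.affine n (d j)
    rw [Submodule.mem_sup]
    refine ⟨∑ j, d' j • (show ι → OA 𝔛 h U from r j), (Submodule.mem_span_range_iff_exists_fun _).2 ⟨d', rfl⟩,
      (show ι → OA 𝔛 h U from c) - ∑ j, d' j • (show ι → OA 𝔛 h U from r j), ?_, add_sub_cancel _ _⟩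
    refine AdicLim.mem_smul_top_of_apply fun i => ?_
    rw [← hU.ker n, RingHom.mem_ker]
    simp only [Pi.sub_apply, Finset.sum_apply, Pi.smul_apply, smul_eq_mul, map_sub, map_sum, map_mul, hd']
    have h2 := congrFun hd i
    simp only [Finset.sum_apply, Pi.smul_apply, smul_eq_mul] at h2
    rw [h2, sub_self]
  have hq : (show ι → OA 𝔛 h U from c) ∈ S := hU.closed S (Submodule.fg_span (Set.finite_range r)) _ key
  obtain ⟨d, hd⟩ := (Submodule.mem_span_range_iff_exists_fun _).1 hq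
  have hci : ∀ i, c i = ∑ j, (show sc (𝔛.Osh h) U from d j) * r j i := fun i => by
    have := congrFun hd i
    simp only [Finset.sum_apply, Pi.smul_apply, smul_eq_mul] at this
    exact this.symm
  simp only [hci, Finset.sum_smul, mul_smul]
  rw [Finset.sum_comm]
  refine Finset.sum_eq_zero fun j _ => ?_
  rw [← Finset.smul_sum, hr.1 j, smul_zero]

theorem exists_affine_pres {B : Set (Opens (𝔛.X 0))} (hB : Opens.IsBasis B) {V : (𝔛.X 0).Opens}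
    {x : 𝔛.X 0} (hx : x ∈ V) :
    ∃ (U : (𝔛.X 0).Opens) (ι κ : Type) (_ : Fintype ι) (_ : Fintype κ) (s : ι → ModSite.sect F U)
      (r : κ → ι → sc (𝔛.Osh h) U), x ∈ U ∧ U ≤ V ∧ U ∈ B ∧ Gen F s ∧ Rel F s r := by
  obtain ⟨U₀, ι, κ, hι, hκ, s, r, hxU, hs, hr⟩ :=
    @RSFin.exists_rel_of_isFinitePresentation _ _ F hF x
  obtain ⟨U, hU, hxU', hUle⟩ := Opens.isBasis_iff_nbhd.1 hB (U := U₀ ⊓ V) (x := x) ⟨hxU, hx⟩
  have h1 : U ≤ U₀ := hUle.trans inf_le_left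
  exact ⟨U, ι, κ, hι, hκ, fun i => RSFin.rs F h1 (s i), fun k i => rsR h1 (r k i), hxU',
    hUle.trans inf_le_right, hU, hs.mono h1, hr.mono h1⟩

theorem isIso_toReal {B : Set (Opens (𝔛.X 0))} (hB : Opens.IsBasis B) (hgood : ∀ U ∈ B, GoodOpen 𝔛 h U) : IsIso (toReal 𝔛 h F) := by
  haveI : Epi (toReal 𝔛 h F) := by
    refine RSFin.epi_of_locally _ fun V t x hx => ?_
    obtain ⟨U, ι, κ, hι, hκ, s, r, hxU, hUV, hU, hs, -⟩ := exists_affine_pres hF hB hx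
    have hm : (show ML 𝔛 h (pullSys 𝔛 h F) U from RSFin.rs ((pullSys 𝔛 h F).realMod h) hUV t) ∈
        Submodule.span (OA 𝔛 h U) (Set.range fun i => (RSFin.ap (toReal 𝔛 h F) U (s i) : ML 𝔛 h (pullSys 𝔛 h F) U)) :=
      (span_toReal_eq_top hF (hgood _ hU) hs).symm ▸ Submodule.mem_top
    obtain ⟨c, hc⟩ := (Submodule.mem_span_range_iff_exists_fun _).1 hm
    refine ⟨U, hUV, ∑ i, (show sc (𝔛.Osh h) U from c i) • s i, hxU, ?_⟩
    rw [map_sum]
    refine Eq.trans ?_ hc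
    exact Finset.sum_congr rfl fun i _ => map_smul _ _ _
  haveI : Mono (toReal 𝔛 h F) := by
    refine RSFin.mono_of_injective _ fun V => (injective_iff_map_eq_zero _).2 fun t ht => ?_
    refine RSFin.eq_zero_of_locally F t fun x hx => ?_
    obtain ⟨U, ι, κ, hι, hκ, s, r, hxU, hUV, hU, hs, hr⟩ := exists_affine_pres hF hB hx
    obtain ⟨W, hW, hxW, hm⟩ := hs le_rfl (RSFin.rs F hUV t) x hxU
    obtain ⟨U', hU', hxU', hle⟩ := Opens.isBasis_iff_nbhd.1 hB (U := W) (x := x) hxW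
    have h2 : U' ≤ W := hle
    have hm' := RSFin.rs_mem_spanOn F (hW.trans le_rfl) h2 s hm
    obtain ⟨c, hc⟩ := (RSFin.mem_spanOn_iff _ _ _ _).1 hm'
    refine ⟨U', (h2.trans hW).trans hUV, hxU', ?_⟩
    rw [RSFin.rs_rs, RSFin.rs_rs] at hc
    rw [← hc]
    have e : U' ≤ U := h2.trans (hW.trans le_rfl)
    have hs' := (hs.mono e).reindex Equiv.ulift.{u}
    have hr' := (hr.mono e).reindex Equiv.ulift.{u} Equiv.ulift.{u}
    have h3 := comb_eq_zero hF (hgood _ hU') hs' hr' (fun i => c i.down) (by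
      refine (congrArg (RSFin.ap (toReal 𝔛 h F) U')
        ((Fintype.sum_equiv Equiv.ulift _ _ fun _ => rfl).trans hc)).trans ?_
      rw [RSFin.ap_rs, ht, map_zero])
    exact (Fintype.sum_equiv Equiv.ulift.{u} _ _ fun _ => rfl).symm.trans h3
  exact isIso_of_mono_of_epi _

end Groth.Agent.FSchTilde
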