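import Groth.Agent.FSchCoh.ComplExact
import Groth.Agent.FSchCoh.Hom

/-!
# Homomorphisms out of the completion of a quasi-coherent module along ideals of finite type
-/

universe u

open CategoryTheory CategoryTheory.Limits AlgebraicGeometry TopologicalSpace Opposite

set_option autoImplicit false
set_option backward.isDefEq.respectTransparency false
set_option linter.style.haveILetI false

noncomputable section

namespace Groth.Agent.FSchTilde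

open FSchCoh

theorem mem_span_smul_iff {R : Type*} [CommRing R] {r : ℕ} (b : Fin r → R) (J : Ideal R) {M : Type*}
    [AddCommGroup M] [Module R M] {a : M}
    (ha : a ∈ (Ideal.span (Set.range b) * J) • (⊤ : Submodule R M)) :
    ∃ c : Fin r → M, (∀ i, c i ∈ J • (⊤ : Submodule R M)) ∧ a = ∑ i, b i • c i := by
  rw [Submodule.mul_smul] at ha
  refine Submodule.smul_induction_on ha (fun t ht y hy => ?_) fun y z hy hz => ?_
  · obtain ⟨d, rfl⟩ := Ideal.mem_span_range_iff_exists_fun.1 ht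
    refine ⟨fun i => d i • y, fun i => Submodule.smul_mem _ _ hy, ?_⟩
    rw [Finset.sum_smul]
    exact Finset.sum_congr rfl fun i _ => by rw [mul_comm, mul_smul]
  · obtain ⟨c, hc, rfl⟩ := hy
    obtain ⟨c', hc', rfl⟩ := hz
    exact ⟨c + c', fun i => Submodule.add_mem _ (hc i) (hc' i),
      by simp only [Pi.add_apply, smul_add, Finset.sum_add_distrib]⟩

section Gen

variable {X : Scheme.{u}} (𝔛 : FSch.Sys.{u}) (g : ∀ n, 𝔛.X n ⟶ X)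
  (hg : ∀ n, 𝔛.ι n ≫ g (n + 1) = g n) (h : 𝔛.IsFormal)

/-- the image of a function in a level -/
def gR (W : X.Opens) (n : ℕ) (b : Γ(X, W)) : RA 𝔛 h (g 0 ⁻¹ᵁ W) n :=
  (g n).appLE W (𝔛.lvU h n (g 0 ⁻¹ᵁ W)) (lvU_g 𝔛 g hg h W n).le b

theorem gR_trans (W : X.Opens) (n : ℕ) (b : Γ(X, W)) :
    transR 𝔛 h (g 0 ⁻¹ᵁ W) n (gR 𝔛 g hg h W (n + 1) b) = gR 𝔛 g hg h W n b := by
  have key : ∀ (f : 𝔛.X n ⟶ X) (hf : 𝔛.ι n ≫ g (n + 1) = f) (e : 𝔛.lvU h n (g 0 ⁻¹ᵁ W) ≤ f ⁻¹ᵁ W),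
      transR 𝔛 h (g 0 ⁻¹ᵁ W) n (gR 𝔛 g hg h W (n + 1) b) = f.appLE W _ e b := by
    rintro _ rfl e
    exact congr($(Scheme.Hom.appLE_comp_appLE (𝔛.ι n) (g (n + 1)) W (𝔛.lvU h (n + 1) (g 0 ⁻¹ᵁ W))
      (𝔛.lvU h n (g 0 ⁻¹ᵁ W)) (lvU_g 𝔛 g hg h W (n + 1)).le (𝔛.lvU_le h n _)) b)
  exact key (g n) (hg n) _

theorem gS_smul {F : X.Modules} (W : X.Opens) (n : ℕ) (b : Γ(X, W)) (m : Γ(F, W)) :
    (gS 𝔛 g hg h F W n (b • m) :
        Γ((Scheme.Modules.pullback (g n)).obj F, 𝔛.lvU h n (g 0 ⁻¹ᵁ W))) =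
      gR 𝔛 g hg h W n b • (show Γ((Scheme.Modules.pullback (g n)).obj F, 𝔛.lvU h n (g 0 ⁻¹ᵁ W)) from
        gS 𝔛 g hg h F W n m) := by
  show ((Scheme.Modules.pullback (g n)).obj F).presheaf.map _ (OmegaSh.pullSect (g n) F W (b • m)) = _
  rw [OmegaSh.pullSect_smul, Scheme.Modules.map_smul]
  rfl

theorem proj_of_proj' {F : X.Modules} {W : X.Opens} {x : ML 𝔛 h (gMod 𝔛 g hg F) (g 0 ⁻¹ᵁ W)} {m n : ℕ}
    (hmn : m ≤ n) {a : Γ(F, W)} (ha : projM 𝔛 h _ _ n x = gS 𝔛 g hg h F W n a) :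
    projM 𝔛 h _ _ m x = gS 𝔛 g hg h F W m a := by
  induction hmn with
  | refl => exact ha
  | @step n hmn ih =>
    exact ih (by rw [← transM_projM, ha, gS_trans])

variable [∀ n, IsClosedImmersion (g n)] (I : ∀ W : X.affineOpens, Ideal Γ(X, W.1))
  (hI : ∀ (W : X.affineOpens) n, RingHom.ker ((g n).app W.1).hom = I W ^ (n + 1))

include hI in
theorem gS_zero_iff' {F : X.Modules} (hF : Coh.IsQCoh F) {W : X.Opens} (hW : IsAffineOpen W) (n : ℕ) (m : Γ(F, W)) :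
    gS 𝔛 g hg h F W n m = 0 ↔ m ∈ (I ⟨W, hW⟩ ^ (n + 1) • ⊤ : Submodule Γ(X, W) Γ(F, W)) := by
  rw [gS_eq_zero_iff 𝔛 g hg h F W hF hW, ← hI ⟨W, hW⟩]

include hI in
theorem gS_eq_iff' {F : X.Modules} (hF : Coh.IsQCoh F) {W : X.Opens} (hW : IsAffineOpen W) (n : ℕ) (a b : Γ(F, W)) :
    gS 𝔛 g hg h F W n a = gS 𝔛 g hg h F W n b ↔ a - b ∈ (I ⟨W, hW⟩ ^ (n + 1) • ⊤ : Submodule Γ(X, W) Γ(F, W)) := by
  rw [← gS_zero_iff' 𝔛 g hg h I hI hF hW, gS_sub, sub_eq_zero]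

include hI in
theorem gR_eq_zero (W : X.affineOpens) (n : ℕ) {b : Γ(X, W.1)} (hb : b ∈ I W ^ (n + 1)) :
    gR 𝔛 g hg h W.1 n b = 0 := by
  rw [← hI W n, RingHom.mem_ker] at hb
  show (𝔛.X n).presheaf.map (homOfLE (lvU_g 𝔛 g hg h W.1 n).le).op ((g n).app W.1 b) = 0
  rw [hb, map_zero]

theorem projM_surjective {F : X.Modules} (hF : Coh.IsQCoh F) {W : X.Opens} (hW : IsAffineOpen W) (k : ℕ) :
    Function.Surjective (projM 𝔛 h (gMod 𝔛 g hg F) (g 0 ⁻¹ᵁ W) k) := by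
  intro z
  obtain ⟨m, rfl⟩ := gS_surjective 𝔛 g hg h F W hF hW k z
  obtain ⟨x, hx⟩ := ML_lift 𝔛 h (gMod 𝔛 g hg F) (g 0 ⁻¹ᵁ W) (fun n => gS 𝔛 g hg h F W n m)
    fun n => gS_trans 𝔛 g hg h F W n m
  exact ⟨x, hx k⟩

include hI in
theorem ker_proj_le {F : X.Modules} (hF : Coh.IsQCoh F) (W : X.affineOpens) (hfg : (I W).FG) (k : ℕ)
    (x : ML 𝔛 h (gMod 𝔛 g hg F) (g 0 ⁻¹ᵁ W.1)) (hx : projM 𝔛 h _ _ k x = 0) :
    x ∈ RingHom.ker (projR 𝔛 h (g 0 ⁻¹ᵁ W.1) k) •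
      (⊤ : Submodule (OA 𝔛 h (g 0 ⁻¹ᵁ W.1)) (ML 𝔛 h (gMod 𝔛 g hg F) (g 0 ⁻¹ᵁ W.1))) := by
  classical
  obtain ⟨r, b, hb⟩ := Submodule.fg_iff_exists_fin_generating_family.1 (hfg.pow (n := k + 1))
  have hb' : Ideal.span (Set.range b) = I W ^ (k + 1) := hb
  choose a ha using fun n => gS_surjective 𝔛 g hg h F W.1 hF W.2 n (projM 𝔛 h _ _ n x)
  have ha' : ∀ n, a (n + 1) - a n ∈ (I W ^ (n + 1) • ⊤ : Submodule Γ(X, W.1) Γ(F, W.1)) := fun n => by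
    rw [← gS_eq_iff' 𝔛 g hg h I hI hF W.2, ha n, ← gS_trans, ha (n + 1), transM_projM]
  have h0 : a k ∈ (Ideal.span (Set.range b) * ⊤) • (⊤ : Submodule Γ(X, W.1) Γ(F, W.1)) := by
    rw [hb', Ideal.mul_top]
    exact (gS_zero_iff' 𝔛 g hg h I hI hF W.2 k (a k)).1 ((ha k).trans hx)
  have hd : ∀ j, a (k + j + 1) - a (k + j) ∈
      (Ideal.span (Set.range b) * I W ^ j) • (⊤ : Submodule Γ(X, W.1) Γ(F, W.1)) := fun j => by
    rw [hb', ← pow_add, show k + 1 + j = k + j + 1 by omega]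
    exact ha' (k + j)
  obtain ⟨c₀, -, hc₀⟩ := mem_span_smul_iff b ⊤ h0
  choose d hd1 hd2 using fun j => mem_span_smul_iff b _ (hd j)
  let c : ℕ → Fin r → Γ(F, W.1) := fun j => Nat.rec c₀ (fun i ci => ci + d i) j
  have hc : ∀ j, a (k + j) = ∑ i, b i • c j i := by
    intro j
    induction j with
    | zero => exact hc₀
    | succ j ih =>
      show a (k + j + 1) = ∑ i, b i • (c j i + d j i)
      simp only [smul_add, Finset.sum_add_distrib]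
      rw [← ih, ← hd2 j]
      abel
  have hy : ∀ i, ∃ y : ML 𝔛 h (gMod 𝔛 g hg F) (g 0 ⁻¹ᵁ W.1),
      ∀ m, projM 𝔛 h _ _ m y = gS 𝔛 g hg h F W.1 m (c (m + 1) i) := fun i =>
    ML_lift 𝔛 h (gMod 𝔛 g hg F) (g 0 ⁻¹ᵁ W.1) (fun m => gS 𝔛 g hg h F W.1 m (c (m + 1) i)) fun m => by
      rw [gS_trans, gS_eq_iff' 𝔛 g hg h I hI hF W.2]
      show c (m + 1) i + d (m + 1) i - c (m + 1) i ∈ _
      rw [add_sub_cancel_left]
      exact hd1 (m + 1) i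
  choose y hy using hy
  have hβ : ∀ i, ∃ β : OA 𝔛 h (g 0 ⁻¹ᵁ W.1), ∀ m, projR 𝔛 h _ m β = gR 𝔛 g hg h W.1 m (b i) := fun i =>
    OA_lift 𝔛 h (g 0 ⁻¹ᵁ W.1) _ fun m => gR_trans 𝔛 g hg h W.1 m (b i)
  choose β hβ using hβ
  have hx' : x = ∑ i, β i • y i := by
    refine ML_ext 𝔛 h _ _ fun m => ?_
    have haa : gS 𝔛 g hg h F W.1 m (a (k + (m + 1))) = projM 𝔛 h _ _ m x :=
      (proj_of_proj' 𝔛 g hg h (show m ≤ k + (m + 1) by omega) (ha _).symm).symm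
    rw [← haa, hc (m + 1), map_sum]
    let φ : Γ(F, W.1) →+ MA 𝔛 h (gMod 𝔛 g hg F) (g 0 ⁻¹ᵁ W.1) m :=
      AddMonoidHom.mk' (gS 𝔛 g hg h F W.1 m) (gS_add 𝔛 g hg h F W.1 m)
    refine (map_sum φ _ _).trans (Finset.sum_congr rfl fun i _ => ?_)
    show gS 𝔛 g hg h F W.1 m (b i • c (m + 1) i) = _
    refine ((gS_smul 𝔛 g hg h W.1 m (b i) _).trans ?_).trans
      ((projM 𝔛 h (gMod 𝔛 g hg F) (g 0 ⁻¹ᵁ W.1) m).map_smul (β i) (y i)).symm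
    rw [hy i m, ← hβ i m]
    rfl
  rw [hx']
  refine Submodule.sum_mem _ fun i _ => Submodule.smul_mem_smul ?_ trivial
  rw [RingHom.mem_ker, hβ i k]
  exact gR_eq_zero 𝔛 g hg h I hI W k (hb' ▸ Ideal.subset_span ⟨i, rfl⟩)

variable (hfg : ∀ W, (I W).FG) {F : X.Modules} (hF : Coh.IsQCoh F)

include hI hfg hF in
theorem proj_comp_bijective (k : ℕ) (G : (𝔛.X k).Modules) :
    Function.Bijective fun φ : (gMod 𝔛 g hg F).F k ⟶ G =>
      FSch.realProj 𝔛 h (gMod 𝔛 g hg F).F (gMod 𝔛 g hg F).toPush k ≫ (FSch.levelMor 𝔛 h k).push.map φ := by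
  have hB := isBasis_g 𝔛 g
  haveI : Epi (FSch.realProj 𝔛 h (gMod 𝔛 g hg F).F (gMod 𝔛 g hg F).toPush k) :=
    epi_of_basis hB _ fun U hU => by
      obtain ⟨W, hW, rfl⟩ := hU
      exact projM_surjective 𝔛 g hg h hF hW k
  constructor
  · intro φ ψ e
    exact push_map_injective 𝔛 φ ψ ((cancel_epi _).1 e)
  · intro ψ
    obtain ⟨θ, hθ⟩ := exists_factor hB (FSch.realProj 𝔛 h (gMod 𝔛 g hg F).F (gMod 𝔛 g hg F).toPush k) ψ
      fun U hU x hx => by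
        obtain ⟨W, hW, rfl⟩ := hU
        refine Submodule.smul_induction_on (ker_proj_le 𝔛 g hg h I hI hF ⟨W, hW⟩ (hfg _) k x hx)
          (fun a ha y _ => ?_) fun y z hy hz => ?_
        · refine ((ψ.val.app (op (g 0 ⁻¹ᵁ W))).hom.map_smul a y).trans ?_
          show projR 𝔛 h (g 0 ⁻¹ᵁ W) k a • (show Γ(G, 𝔛.lvU h k (g 0 ⁻¹ᵁ W)) from app ψ (g 0 ⁻¹ᵁ W) y) = 0
          rw [RingHom.mem_ker.1 ha, zero_smul]
        · show (ψ.val.app (op (g 0 ⁻¹ᵁ W))).hom (y + z) = 0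
          rw [map_add]
          exact (congrArg₂ (· + ·) hy hz).trans (add_zero 0)
    exact ⟨desc 𝔛 θ, (congrArg _ (push_desc 𝔛 θ)).trans hθ⟩

theorem realModMap_proj {𝔐 𝔑 : FSch.ModSys 𝔛} (φ : 𝔐 ⟶ 𝔑) (k : ℕ) :
    FSch.ModSys.realModMap h φ ≫ FSch.realProj 𝔛 h 𝔑.F 𝔑.toPush k =
      FSch.realProj 𝔛 h 𝔐.F 𝔐.toPush k ≫ (FSch.levelMor 𝔛 h k).push.map (φ.app k) :=
  FSch.realLimMap_realProj 𝔛 h φ.app (FSch.ModSys.Hom.toPush_comm φ) k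

theorem realMod_hom_ext {𝔑 : FSch.ModSys 𝔛} {T : FSch.ModF 𝔛 h} {a b : T ⟶ 𝔑.realMod h}
    (e : ∀ k, a ≫ FSch.realProj 𝔛 h 𝔑.F 𝔑.toPush k = b ≫ FSch.realProj 𝔛 h 𝔑.F 𝔑.toPush k) : a = b :=
  limit.hom_ext fun j => e j.unop

theorem realModMap_comp {𝔐 𝔑 𝔓 : FSch.ModSys 𝔛} (φ : 𝔐 ⟶ 𝔑) (ψ : 𝔑 ⟶ 𝔓) :
    FSch.ModSys.realModMap h (φ ≫ ψ) = FSch.ModSys.realModMap h φ ≫ FSch.ModSys.realModMap h ψ := by
  refine realMod_hom_ext 𝔛 h fun k => ?_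
  rw [realModMap_proj, Category.assoc, realModMap_proj, ← Category.assoc, realModMap_proj, Category.assoc,
    ← Functor.map_comp]
  rfl

theorem realModMap_id (𝔐 : FSch.ModSys 𝔛) : FSch.ModSys.realModMap h (𝟙 𝔐) = 𝟙 _ := by
  refine realMod_hom_ext 𝔛 h fun k => ?_
  rw [realModMap_proj, Category.id_comp]
  exact (congrArg _ ((FSch.levelMor 𝔛 h k).push.map_id (𝔐.F k))).trans (Category.comp_id _)

include hI hfg hF in
theorem realModMap_bijective (𝔑 : FSch.ModSys 𝔛) :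
    Function.Bijective (fun φ : gMod 𝔛 g hg F ⟶ 𝔑 => FSch.ModSys.realModMap h φ) := by
  have hb := fun k G => proj_comp_bijective 𝔛 g hg h I hI hfg hF k G
  constructor
  · intro φ ψ e
    refine FSch.ModSys.Hom.ext (funext fun k => (hb k _).1 ?_)
    have h1 := congrArg (fun θ => θ ≫ FSch.realProj 𝔛 h 𝔑.F 𝔑.toPush k) e
    exact ((realModMap_proj 𝔛 h φ k).symm.trans h1).trans (realModMap_proj 𝔛 h ψ k)
  · intro ψ
    let 𝔐 := gMod 𝔛 g hg F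
    choose φ hφ using fun k => (hb k (𝔑.F k)).2 (ψ ≫ FSch.realProj 𝔛 h 𝔑.F 𝔑.toPush k)
    dsimp only at hφ
    have hcomm : ∀ k, 𝔐.toPush k ≫ (Scheme.Modules.pushforward (𝔛.ι k)).map (φ k) = φ (k + 1) ≫ 𝔑.toPush k := by
      intro k
      apply (hb (k + 1) _).1
      dsimp only
      haveI : IsIso ((FSch.pushCompare 𝔛 h k).app (𝔑.F k)) :=
        ⟨(FSch.pushCompareInv 𝔛 h k).app _, FSch.pushCompare_pushCompareInv 𝔛 h k _,
          FSch.pushCompareInv_pushCompare 𝔛 h k _⟩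
      apply (cancel_mono ((FSch.pushCompare 𝔛 h k).app (𝔑.F k))).1
      have h1 : FSch.realProj 𝔛 h 𝔐.F 𝔐.toPush (k + 1) ≫
          (FSch.levelMor 𝔛 h (k + 1)).push.map (𝔐.toPush k ≫ (Scheme.Modules.pushforward (𝔛.ι k)).map (φ k)) ≫
            (FSch.pushCompare 𝔛 h k).app (𝔑.F k) = ψ ≫ FSch.realProj 𝔛 h 𝔑.F 𝔑.toPush k := by
        rw [Functor.map_comp, Category.assoc]
        have nat := (FSch.pushCompare 𝔛 h k).naturality (φ k)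
        refine Eq.trans ?_ ((congrArg (· ≫ (FSch.levelMor 𝔛 h k).push.map (φ k))
          (FSch.realProj_map 𝔛 h 𝔐.F 𝔐.toPush k)).trans (hφ k))
        rw [Category.assoc, Category.assoc]
        exact congrArg (fun t => _ ≫ _ ≫ t) nat
      have h2 : FSch.realProj 𝔛 h 𝔐.F 𝔐.toPush (k + 1) ≫
          (FSch.levelMor 𝔛 h (k + 1)).push.map (φ (k + 1) ≫ 𝔑.toPush k) ≫
            (FSch.pushCompare 𝔛 h k).app (𝔑.F k) = ψ ≫ FSch.realProj 𝔛 h 𝔑.F 𝔑.toPush k := by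
        rw [Functor.map_comp, Category.assoc, ← Category.assoc, hφ (k + 1), Category.assoc,
          FSch.realProj_map]
      rw [Category.assoc, Category.assoc]
      exact h1.trans h2.symm
    refine ⟨⟨φ, fun k => ?_⟩, realMod_hom_ext 𝔛 h fun k => ?_⟩
    · apply ((Scheme.Modules.pullbackPushforwardAdjunction (𝔛.ι k)).homEquiv _ _).injective
      rw [Adjunction.homEquiv_naturality_left, Adjunction.homEquiv_naturality_right]
      exact (hcomm k).symm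
    · exact (realModMap_proj 𝔛 h _ k).trans (hφ k)

end Gen

end Groth.Agent.FSchTilde
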